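import Groth.Agent.GrpdField.Irreducible
import Groth.Agent.SGA3cLib.Homogeneous
import Mathlib.AlgebraicGeometry.Geometrically.Irreducible

/-!
# Geometric irreducibility of the component through a section
-/

set_option autoImplicit false
set_option backward.isDefEq.respectTransparency.types false
set_option linter.style.haveILetI false

universe u

open CategoryTheory Limits AlgebraicGeometry

namespace Groth.Agent.GrpdField

variable {k : Type u} [Field k] {X : Scheme.{u}} (f : X ⟶ Spec (CommRingCat.of k))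

/-- If in every field base change the section has a single maximal generization, then over a maximal
point specializing to the section lies a single maximal point. -/
theorem eq_of_fst_eq_of_section (σ : Spec (CommRingCat.of k) ⟶ X) (hσ : σ ≫ f = 𝟙 _)
    (hU : ∀ (K : Type u) [Field K] (g : Spec (CommRingCat.of K) ⟶ Spec (CommRingCat.of k)),
      UniqueMax ((pullback.lift (g ≫ σ) (𝟙 _) (by rw [Category.assoc, hσ, Category.comp_id, Category.id_comp]) :
        Spec (CommRingCat.of K) ⟶ pullback f g) (IsLocalRing.closedPoint K)))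
    {θ : X} (hθ : θ ⤳ σ (IsLocalRing.closedPoint k)) {K : Type u} [Field K]
    (g : Spec (CommRingCat.of K) ⟶ Spec (CommRingCat.of k)) {w₁ w₂ : ↥(pullback f g)}
    (h₁ : ∀ v, v ⤳ w₁ → w₁ = v) (h₂ : ∀ v, v ⤳ w₂ → w₂ = v)
    (e₁ : pullback.fst f g w₁ = θ) (e₂ : pullback.fst f g w₂ = θ) : w₁ = w₂ := by
  let kb := AlgebraicClosure k
  let h : Spec (CommRingCat.of kb) ⟶ Spec (CommRingCat.of k) :=
    Spec.map (CommRingCat.ofHom (algebraMap k kb))
  haveI : IsIntegralHom h := IsIntegralHom.SpecMap_iff.mpr (Algebra.IsIntegral.isIntegral (R := k))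
  let p₀ := pullback.fst f h
  let s₀ : Spec (CommRingCat.of kb) ⟶ pullback f h :=
    pullback.lift (h ≫ σ) (𝟙 _) (by rw [Category.assoc, hσ, Category.comp_id, Category.id_comp])
  have hsingle : ∀ z : ↥(pullback f h), p₀ z = σ (IsLocalRing.closedPoint k) →
      z = s₀ (IsLocalRing.closedPoint kb) := by
    haveI : IsIso (σ ≫ f) := by rw [hσ]; infer_instance
    let e : pullback σ p₀ ≅ Spec (CommRingCat.of kb) :=
      pullbackRightPullbackFstIso f h σ ≪≫ asIso (pullback.snd (σ ≫ f) h)
    have hs : Subsingleton ↥(pullback σ p₀) := e.hom.homeomorph.injective.subsingleton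
    intro z hz
    obtain ⟨b₁, -, rfl⟩ := Scheme.Pullback.exists_preimage_pullback (f := σ) (g := p₀) (IsLocalRing.closedPoint k) z hz.symm
    have hc : σ (IsLocalRing.closedPoint k) = p₀ (s₀ (IsLocalRing.closedPoint kb)) := by
      rw [← Scheme.Hom.comp_apply, pullback.lift_fst]
      exact congrArg σ (Subsingleton.elim (α := PrimeSpectrum k) _ _)
    obtain ⟨b₂, -, hb₂⟩ := Scheme.Pullback.exists_preimage_pullback (f := σ) (g := p₀) (IsLocalRing.closedPoint k)
      (s₀ (IsLocalRing.closedPoint kb)) hc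
    rw [Subsingleton.elim b₁ b₂, hb₂]
  have hkb : ∀ D₁ D₂ : ↥(pullback f h), (∀ v, v ⤳ D₁ → D₁ = v) → (∀ v, v ⤳ D₂ → D₂ = v) →
      p₀ D₁ = θ → p₀ D₂ = θ → D₁ = D₂ := by
    intro D₁ D₂ hD₁ hD₂ hp₁ hp₂
    have hlift : ∀ D, p₀ D = θ → D ⤳ s₀ (IsLocalRing.closedPoint kb) := by
      intro D hD
      have hcl : IsClosed (p₀ '' closure {D}) := p₀.isClosedMap _ isClosed_closure
      obtain ⟨z, hz, hz'⟩ := (hcl.closure_subset_iff.2
        (Set.singleton_subset_iff.2 (⟨D, subset_closure rfl, hD⟩ : θ ∈ p₀ '' closure {D})))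
        (specializes_iff_mem_closure.1 hθ)
      rw [hsingle z hz'] at hz
      exact specializes_iff_mem_closure.2 hz
    exact hU kb h D₁ D₂ hD₁ hD₂ (hlift D₁ hp₁) (hlift D₂ hp₂)
  -- a common algebraically closed field
  let L := AlgebraicClosure K
  let l : Spec (CommRingCat.of L) ⟶ Spec (CommRingCat.of K) := Spec.map (CommRingCat.ofHom (algebraMap K L))
  let : Algebra k L := (Spec.preimage (l ≫ g)).hom.toAlgebra
  let m : Spec (CommRingCat.of L) ⟶ Spec (CommRingCat.of kb) :=
    Spec.map (CommRingCat.ofHom (IsAlgClosed.lift (R := k) (S := kb) (M := L)).toRingHom)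
  have hm : m ≫ h = l ≫ g := by
    rw [← Spec.map_comp]
    conv_rhs => rw [← Spec.map_preimage (l ≫ g)]
    congr 1
    ext r
    exact (IsAlgClosed.lift (R := k) (S := kb) (M := L)).commutes r
  let e : pullback f (m ≫ h) ≅ pullback f (l ≫ g) := pullback.congrHom rfl hm
  haveI : IsIso e.hom := e.isIso_hom
  haveI := (flat_bcMap f h m).2
  haveI := (flat_bcMap f g l).2
  haveI : Surjective (bcMap f g l) := MorphismProperty.of_isPullback (P := @Surjective) (flat_bcMap f g l).1.flip
    ⟨fun t => ⟨IsLocalRing.closedPoint L, Subsingleton.elim _ _⟩⟩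
  have hliftL : ∀ w, (∀ v, v ⤳ w → w = v) → pullback.fst f g w = θ →
      ∃ v : ↥(pullback f (m ≫ h)), (∀ u, u ⤳ v → v = u) ∧ bcMap f g l (e.hom v) = w ∧ p₀ (bcMap f h m v) = θ := by
    intro w hw hwe
    obtain ⟨v₀, hv₀⟩ := (bcMap f g l).surjective w
    obtain ⟨v, hv, hmax⟩ := DimLib.exists_maximal_specializes v₀
    obtain ⟨v', rfl⟩ := e.hom.surjective v
    have h1 : bcMap f g l (e.hom v') = w := (hw _ (hv₀ ▸ hv.map (bcMap f g l).continuous)).symm
    refine ⟨v', fun u hu => e.hom.homeomorph.injective (hmax _ (hu.map e.hom.continuous)), h1, ?_⟩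
    rw [← hwe, ← h1, ← Scheme.Hom.comp_apply, ← Scheme.Hom.comp_apply, ← Scheme.Hom.comp_apply]
    congr 2
    rw [show bcMap f h m ≫ p₀ = pullback.fst f (m ≫ h) from pullback.lift_fst _ _ _,
      show bcMap f g l ≫ pullback.fst f g = pullback.fst f (l ≫ g) from pullback.lift_fst _ _ _]
    rw [show e.hom ≫ pullback.fst f (l ≫ g) = pullback.fst f (m ≫ h) from
      (pullback.lift_fst _ _ _).trans (Category.comp_id _)]
  obtain ⟨v₁, hv₁, rfl, hq₁⟩ := hliftL w₁ h₁ e₁
  obtain ⟨v₂, hv₂, rfl, hq₂⟩ := hliftL w₂ h₂ e₂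
  rw [eq_of_bcMap_eq f h m hv₁ hv₂ (hkb _ _ (DimLib.isMax_apply_of_flat _ hv₁) (DimLib.isMax_apply_of_flat _ hv₂) hq₁ hq₂)]

/-- The component through a section is geometrically irreducible. -/
theorem geometricallyIrreducible_component (σ : Spec (CommRingCat.of k) ⟶ X) (hσ : σ ≫ f = 𝟙 _)
    (hU : ∀ (K : Type u) [Field K] (g : Spec (CommRingCat.of K) ⟶ Spec (CommRingCat.of k)),
      UniqueMax ((pullback.lift (g ≫ σ) (𝟙 _) (by rw [Category.assoc, hσ, Category.comp_id, Category.id_comp]) :
        Spec (CommRingCat.of K) ⟶ pullback f g) (IsLocalRing.closedPoint K)))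
    (hX : ∀ x : X, UniqueMax x) {Z : Scheme.{u}} (j : Z ⟶ X) [IsClosedImmersion j]
    (hZ : Set.range j ∈ irreducibleComponents (X : Type u)) (he : σ (IsLocalRing.closedPoint k) ∈ Set.range j) :
    GeometricallyIrreducible (j ≫ f) := by
  obtain ⟨θ, hθ, hθmax⟩ := DimLib.exists_genericPoint_of_mem_components hZ
  refine ⟨geometrically_iff_of_commRing_of_isClosedUnderIsomorphisms.2 fun K _ _ => ?_⟩
  let g : Spec (CommRingCat.of K) ⟶ Spec (CommRingCat.of k) := Spec.map (CommRingCat.ofHom (algebraMap k K))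
  show IrreducibleSpace ↥(pullback (j ≫ f) g)
  let J : pullback (j ≫ f) g ⟶ pullback f g :=
    pullback.lift (pullback.fst _ _ ≫ j) (pullback.snd _ _) (by rw [Category.assoc, pullback.condition])
  have hJs : J ≫ pullback.snd f g = pullback.snd (j ≫ f) g := pullback.lift_snd _ _ _
  have hJp : IsPullback J (pullback.fst (j ≫ f) g) (pullback.fst f g) j := by
    refine IsPullback.of_right ?_ (pullback.lift_fst _ _ _) (IsPullback.of_hasPullback f g).flip
    rw [hJs]
    exact (IsPullback.of_hasPullback (j ≫ f) g).flip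
  haveI : IsClosedImmersion J := MorphismProperty.of_isPullback (P := @IsClosedImmersion) hJp.flip inferInstance
  have hrange : Set.range J = pullback.fst f g ⁻¹' Set.range j := by
    refine Set.Subset.antisymm ?_ ?_
    · rintro _ ⟨y, rfl⟩
      exact ⟨pullback.fst (j ≫ f) g y, by rw [← Scheme.Hom.comp_apply, ← hJp.w]; rfl⟩
    · rintro y ⟨z, hz⟩
      obtain ⟨w, hw, -⟩ := Scheme.Pullback.exists_preimage_pullback (f := pullback.fst f g) (g := j) y z hz.symm
      obtain ⟨v, rfl⟩ := hJp.isoPullback.hom.surjective w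
      refine ⟨v, ?_⟩
      rw [← hw, ← Scheme.Hom.comp_apply, hJp.isoPullback_hom_fst]
  haveI : Flat (pullback.fst f g) := MorphismProperty.pullback_fst (P := @Flat) _ _ inferInstance
  haveI : Surjective (pullback.fst f g) := MorphismProperty.pullback_fst (P := @Surjective) _ _
    ⟨fun t => ⟨IsLocalRing.closedPoint K, Subsingleton.elim _ _⟩⟩
  obtain ⟨w₀, hw₀⟩ := (pullback.fst f g).surjective θ
  obtain ⟨w, hw, hwmax⟩ := DimLib.exists_maximal_specializes w₀
  have hwθ : pullback.fst f g w = θ := (hθmax _ (hw₀ ▸ hw.map (pullback.fst f g).continuous)).symm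
  have hirr : IsIrreducible (Set.range J) := by
    have : Set.range J = closure {w} := by
      rw [hrange]
      refine Set.Subset.antisymm (fun y hy => ?_) (closure_minimal
        (Set.singleton_subset_iff.2 (by rw [Set.mem_preimage, hwθ]; exact hθ.mem))
        (j.isClosedEmbedding.isClosed_range.preimage (pullback.fst f g).continuous))
      obtain ⟨w', hw', hw'max⟩ := DimLib.exists_maximal_specializes y
      have h1 : pullback.fst f g w' = θ := hX (pullback.fst f g y) _ _ (DimLib.isMax_apply_of_flat _ hw'max) hθmax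
        (hw'.map (pullback.fst f g).continuous) (hθ.specializes hy)
      rw [← eq_of_fst_eq_of_section f σ hσ hU (hθ.specializes he) g hw'max hwmax h1 hwθ]
      exact specializes_iff_mem_closure.1 hw'
    rw [this]
    exact isIrreducible_singleton.closure
  haveI : IrreducibleSpace ↥(Set.range J) := Subtype.irreducibleSpace hirr
  exact J.isClosedEmbedding.isEmbedding.toHomeomorph.symm.surjective.irreducibleSpace
    J.isClosedEmbedding.isEmbedding.toHomeomorph.symm.continuous

end Groth.Agent.GrpdField
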