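import Groth.Agent.GrpdLib.Orbits
import Groth.Agent.AlgGrpLib.Equidim
import Groth.Agent.H8Top.SchemeComponents

/-!
# Groupoids on the spectrum of a field, locally of finite type, are equidimensional
-/

set_option autoImplicit false
set_option backward.isDefEq.respectTransparency.types false
set_option linter.style.haveILetI false

universe u

open CategoryTheory Limits AlgebraicGeometry

namespace Groth.Agent.GrpdField

open Groth.Agent.GrpdLib

section general

variable {k : Type u} [Field k] {X : Scheme.{u}} (f : X ⟶ Spec (CommRingCat.of k)) [LocallyOfFiniteType f]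

/-- `ptDim` is unchanged from a maximal point of a field base change to its image. -/
theorem ptDim_snd_eq_of_maximal {K : Type u} [Field K] (g : Spec (CommRingCat.of K) ⟶ Spec (CommRingCat.of k))
    {z : ↥(pullback f g)} (h : ∀ w, w ⤳ z → z = w) :
    DimLib.ptDim (pullback.snd f g) z = DimLib.ptDim f (pullback.fst f g z) := by
  obtain ⟨φ, rfl⟩ : ∃ φ : k →+* K, Spec.map (CommRingCat.ofHom φ) = g :=
    ⟨(Spec.preimage g).hom, by rw [CommRingCat.ofHom_hom, Spec.map_preimage]⟩
  algebraize [φ]
  exact DimLib.ptDim_bc_eq_of_maximal f K fun w hw _ => h w hw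

omit [LocallyOfFiniteType f] in
/-- Near a maximal point there are no other irreducible components. -/
theorem exists_nhd_of_maximal [IsLocallyNoetherian X] {ξ : X} (h : ∀ z, z ⤳ ξ → ξ = z) :
    ∃ N : Set X, IsOpen N ∧ ξ ∈ N ∧ ∀ y ∈ N, ∀ z, z ⤳ y → (∀ w, w ⤳ z → z = w) → z = ξ := by
  obtain ⟨N, hN, hξN, hsub⟩ := (H8Top.isLocNoetherian_scheme X).exists_nhd_subset_components ξ
  refine ⟨N, hN, hξN, fun y hy z hzy hz => ?_⟩
  obtain ⟨Z, ⟨hZ, hξZ⟩, hzZ⟩ := hsub (hzy.mem_open hN hy)
  obtain ⟨θ, hθ, -⟩ := DimLib.exists_genericPoint_of_mem_components hZ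
  rw [← h θ (hθ.specializes hξZ)] at hθ
  exact hz ξ (hθ.specializes hzZ)

/-- Consequences of equidimensionality: local dimension and dimension of components. -/
theorem localDim_eq_of_equidim (hd : ∀ x : X, (∀ z, z ⤳ x → x = z) →
      (DimLib.ptDim f x : WithBot ℕ∞) = topologicalKrullDim X) (x : X) :
    FlatMor.localDim X x = topologicalKrullDim X := by
  refine le_antisymm ((iInf_le _ ⟨⊤, trivial⟩).trans
    (Homeomorph.isHomeomorph (Homeomorph.Set.univ X)).topologicalKrullDim_eq.le) (le_iInf fun U => ?_)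
  obtain ⟨U, hxU⟩ := U
  obtain ⟨ξ, hξ, hmax⟩ := DimLib.exists_maximal_specializes x
  let V : X.Opens := U
  let z : (V : Scheme.{u}) := ⟨ξ, hξ.mem_open U.isOpen hxU⟩
  calc topologicalKrullDim X = (DimLib.ptDim f ξ : WithBot ℕ∞) := (hd ξ hmax).symm
    _ = (DimLib.ptDim (V.ι ≫ f) z : WithBot ℕ∞) := by
        rw [DimLib.ptDim_comp_preimmersion f V.ι z]; rfl
    _ ≤ topologicalKrullDim ↥(V : Scheme.{u}) := DimLib.ptDim_le_topologicalKrullDim (V.ι ≫ f) z
    _ ≤ _ := le_rfl

theorem ringKrullDim_stalk_of_equidim (hd : ∀ x : X, (∀ z, z ⤳ x → x = z) →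
      (DimLib.ptDim f x : WithBot ℕ∞) = topologicalKrullDim X) (x : X) (hx : IsClosed ({x} : Set X)) :
    ringKrullDim (X.presheaf.stalk x) = topologicalKrullDim X := by
  have h := VarietyLib.localDim_eq_stalk_add_ptDim f x
  rw [localDim_eq_of_equidim f hd x, (DimLib.ptDim_eq_zero_iff f x).2 hx] at h
  simpa using h.symm

theorem component_dim_of_equidim (hd : ∀ x : X, (∀ z, z ⤳ x → x = z) →
      (DimLib.ptDim f x : WithBot ℕ∞) = topologicalKrullDim X) {Z : Set X} (hZ : Z ∈ irreducibleComponents X) :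
    topologicalKrullDim Z = topologicalKrullDim X := by
  obtain ⟨θ, hθ, hmax⟩ := DimLib.exists_genericPoint_of_mem_components hZ
  exact (DimLib.topologicalKrullDim_eq_ptDim_of_isGenericPoint f hθ).trans (hd θ hmax)

end general

variable {S : Scheme.{u}} (G : Grpd.GroupoidScheme S) {k : Type u} [Field k] (eU : G.U ≅ Spec (CommRingCat.of k))

/-- The identity section of a fibre of the source map. -/
noncomputable def idSection {K : Type u} [Field K] (g : Spec (CommRingCat.of K) ⟶ Spec (CommRingCat.of k)) :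
    Spec (CommRingCat.of K) ⟶ pullback (G.s ≫ eU.hom) g :=
  pullback.lift (g ≫ eU.inv ≫ G.e) (𝟙 _) (by
    simp only [Category.assoc, reassoc_of% G.e_s, Iso.inv_hom_id, Category.comp_id, Category.id_comp])

/-- Composition with an arrow is an isomorphism between fibres of the source, moving the identity of
its target to the arrow. -/
theorem exists_translate_iso {K : Type u} [Field K] (r : Spec (CommRingCat.of K) ⟶ G.R) :
    ∃ Φ : pullback (G.s ≫ eU.hom) (r ≫ G.t ≫ eU.hom) ≅ pullback (G.s ≫ eU.hom) (r ≫ G.s ≫ eU.hom),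
      Φ.hom ≫ pullback.snd _ _ = pullback.snd _ _ ∧
      idSection G eU (r ≫ G.t ≫ eU.hom) ≫ Φ.hom = pullback.lift r (𝟙 _) (by simp only [Category.id_comp]) := by
  set p := G.s ≫ eU.hom with hp
  let a := r ≫ G.s ≫ eU.hom
  let b := r ≫ G.t ≫ eU.hom
  let Xa := pullback p a
  let Xb := pullback p b
  have hb : pullback.fst p b ≫ G.s = pullback.snd p b ≫ r ≫ G.t := by
    rw [← cancel_mono eU.hom, Category.assoc, ← hp, pullback.condition]
    simp only [b, Category.assoc]
  have ha : pullback.fst p a ≫ G.s = (pullback.snd p a ≫ r ≫ G.i) ≫ G.t := by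
    rw [← cancel_mono eU.hom, Category.assoc, ← hp, pullback.condition]
    simp only [a, Category.assoc, reassoc_of% G.i_t]
  let F : Xb ⟶ Xa := pullback.lift (cmp G (pullback.fst p b) (pullback.snd p b ≫ r) (by rw [hb, Category.assoc]))
    (pullback.snd p b) (by
      simp only [hp, ← Category.assoc _ G.s, cmp_s, a]
      simp only [Category.assoc])
  let F' : Xa ⟶ Xb := pullback.lift (cmp G (pullback.fst p a) (pullback.snd p a ≫ r ≫ G.i) ha)
    (pullback.snd p a) (by
      simp only [hp, ← Category.assoc _ G.s, cmp_s, b]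
      simp only [Category.assoc, reassoc_of% G.i_s])
  have h1 : F ≫ F' = 𝟙 _ := by
    apply pullback.hom_ext
    · rw [Category.assoc, pullback.lift_fst, Category.id_comp, comp_cmp]
      refine (cmp_congr G (pullback.lift_fst _ _ _)
        (show F ≫ pullback.snd p a ≫ r ≫ G.i = (pullback.snd p b ≫ r) ≫ G.i by
          rw [← Category.assoc F, pullback.lift_snd, Category.assoc]) _ ?_).trans
        (cmp_cmp_inv_right G (pullback.snd p b ≫ r) (pullback.fst p b) ?_ ?_)
      · rw [cmp_s, i_comp_t]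
      · rw [hb, Category.assoc]
      · rw [cmp_s, i_comp_t]
    · rw [Category.assoc, pullback.lift_snd, pullback.lift_snd, Category.id_comp]
  have h2 : F' ≫ F = 𝟙 _ := by
    apply pullback.hom_ext
    · rw [Category.assoc, pullback.lift_fst, Category.id_comp, comp_cmp]
      refine (cmp_congr G (pullback.lift_fst _ _ _)
        (show F' ≫ pullback.snd p b ≫ r = (pullback.snd p a ≫ r ≫ G.i) ≫ G.i by
          rw [← Category.assoc F', pullback.lift_snd]
          simp only [Category.assoc, i_comp_i, Category.comp_id]) _ ?_).trans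
        (cmp_cmp_inv_right G (pullback.snd p a ≫ r ≫ G.i) (pullback.fst p a) ?_ ?_)
      · rw [cmp_s, i_comp_t]
      · exact ha
      · rw [cmp_s, i_comp_t]
    · rw [Category.assoc, pullback.lift_snd, pullback.lift_snd, Category.id_comp]
  let Φ : Xb ≅ Xa := ⟨F, F', h1, h2⟩
  let eb : Spec (CommRingCat.of K) ⟶ Xb := idSection G eU b
  let ra : Spec (CommRingCat.of K) ⟶ Xa := pullback.lift r (𝟙 _) (by
    simp only [p, a, Category.id_comp])
  have hebra : eb ≫ F = ra := by
    apply pullback.hom_ext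
    · rw [Category.assoc, pullback.lift_fst, pullback.lift_fst, comp_cmp]
      refine (cmp_congr G (show eb ≫ pullback.fst p b = r ≫ G.t ≫ G.e by
          simp only [eb, idSection, b, p, pullback.lift_fst, Category.assoc, eU.hom_inv_id_assoc])
        (show eb ≫ pullback.snd p b ≫ r = r by
          rw [← Category.assoc, show eb ≫ pullback.snd p b = 𝟙 _ from pullback.lift_snd _ _ _, Category.id_comp]) _ ?_).trans
        (G.e_comp r)
      simp only [Category.assoc, G.e_s, Category.comp_id]
    · rw [Category.assoc, pullback.lift_snd, show eb ≫ pullback.snd p b = 𝟙 _ from pullback.lift_snd _ _ _,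
        pullback.lift_snd]
  exact ⟨Φ, pullback.lift_snd _ _ _, hebra⟩

/-- Composition with an arrow moves the identity of its target to the arrow. -/
theorem exists_translate {K : Type u} [Field K] (r : Spec (CommRingCat.of K) ⟶ G.R) :
    ∃ h : ↥(pullback (G.s ≫ eU.hom) (r ≫ G.t ≫ eU.hom)) ≃ₜ ↥(pullback (G.s ≫ eU.hom) (r ≫ G.s ≫ eU.hom)),
      h (idSection G eU (r ≫ G.t ≫ eU.hom) (IsLocalRing.closedPoint K)) =
        (pullback.lift r (𝟙 _) (by simp only [Category.id_comp]) :
          Spec (CommRingCat.of K) ⟶ pullback (G.s ≫ eU.hom) (r ≫ G.s ≫ eU.hom)) (IsLocalRing.closedPoint K) := by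
  obtain ⟨Φ, -, hΦ⟩ := exists_translate_iso G eU r
  haveI : IsIso Φ.hom := Φ.isIso_hom
  refine ⟨Φ.hom.homeomorph, ?_⟩
  rw [← hΦ]
  rfl


/-- All maximal points of the arrows of a groupoid on a field have the same dimension over the source. -/
theorem ptDim_eq_topologicalKrullDim [LocallyOfFiniteType G.s] {ξ : G.R} (hξ : ∀ z, z ⤳ ξ → ξ = z) :
    (DimLib.ptDim (G.s ≫ eU.hom) ξ : WithBot ℕ∞) = topologicalKrullDim G.R := by
  set p := G.s ≫ eU.hom with hp
  haveI : IsLocallyNoetherian G.R := LocallyOfFiniteType.isLocallyNoetherian p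
  let ε := (eU.inv ≫ G.e) (IsLocalRing.closedPoint k)
  obtain ⟨θ₀, hθ₀, hθ₀max⟩ := DimLib.exists_maximal_specializes ε
  suffices key : ∀ x : G.R, (∀ z, z ⤳ x → x = z) → DimLib.ptDim p x = DimLib.ptDim p θ₀ by
    refine le_antisymm (DimLib.ptDim_le_topologicalKrullDim p ξ) ?_
    refine DimLib.topologicalKrullDim_le_of_forall_maximal p _ fun x hx => ?_
    rw [key x hx, key ξ hξ]
  intro x hx
  obtain ⟨N, hN, hxN, hNuniq⟩ := exists_nhd_of_maximal hx
  obtain ⟨r₀, hr₀, -⟩ := DimLib.exists_isClosed_singleton_mem p ⟨x, hxN⟩ hN.isLocallyClosed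
  let K := AlgebraicClosure (G.R.residueField r₀)
  obtain ⟨r, hr⟩ : ∃ r : Spec (CommRingCat.of K) ⟶ G.R, r (IsLocalRing.closedPoint K) = r₀ :=
    ⟨Spec.map (CommRingCat.ofHom (algebraMap (G.R.residueField r₀) K)) ≫ G.R.fromSpecResidueField r₀,
      (G.R.range_fromSpecResidueField r₀).le ⟨_, rfl⟩⟩
  let a := r ≫ G.s ≫ eU.hom
  let b := r ≫ G.t ≫ eU.hom
  let Xa := pullback p a
  let Xb := pullback p b
  obtain ⟨h, hh⟩ := exists_translate G eU r
  let eb : Spec (CommRingCat.of K) ⟶ Xb := idSection G eU b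
  let ra : Spec (CommRingCat.of K) ⟶ Xa := pullback.lift r (𝟙 _) (by
    simp only [p, a, Category.id_comp])
  let c := IsLocalRing.closedPoint K
  haveI : LocallyOfFiniteType (pullback.snd p a) := inferInstance
  haveI : LocallyOfFiniteType (pullback.snd p b) := inferInstance
  have heb : pullback.fst p b (eb c) = ε := by
    rw [← Scheme.Hom.comp_apply, show eb ≫ pullback.fst p b = b ≫ eU.inv ≫ G.e from pullback.lift_fst _ _ _]
    show (eU.inv ≫ G.e) (b c) = _
    exact congrArg _ (Subsingleton.elim (α := PrimeSpectrum k) _ _)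
  haveI : Flat (pullback.fst p b) := MorphismProperty.pullback_fst (P := @Flat) _ _ inferInstance
  obtain ⟨y, hy, hyθ⟩ := Flat.generalizingMap (pullback.fst p b)
    (show θ₀ ⤳ pullback.fst p b (eb c) from heb.symm ▸ hθ₀)
  obtain ⟨w, hw, hwmax⟩ := DimLib.exists_maximal_specializes y
  have hwθ : pullback.fst p b w = θ₀ := (hθ₀max _ (hyθ ▸ hw.map (pullback.fst p b).continuous)).symm
  let v := h w
  have hvr : v ⤳ ra c := by
    have := (hw.trans hy).map h.continuous
    rw [show h (eb c) = ra c from hh] at this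
    exact this
  have hvmax : ∀ z, z ⤳ v → v = z := fun z hz => by
    have hz' := hz.map h.symm.continuous
    rw [h.symm_apply_apply] at hz'
    rw [show v = h w from rfl, hwmax _ hz', h.apply_symm_apply]
  have hvx : pullback.fst p a v = x := by
    haveI : Flat (pullback.fst p a) := MorphismProperty.pullback_fst (P := @Flat) _ _ inferInstance
    refine hNuniq r₀ hr₀ _ ?_ (DimLib.isMax_apply_of_flat _ hvmax)
    have := hvr.map (pullback.fst p a).continuous
    rwa [← Scheme.Hom.comp_apply, pullback.lift_fst, hr] at this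
  have e1 := ptDim_snd_eq_of_maximal p a hvmax
  have e2 := ptDim_snd_eq_of_maximal p b hwmax
  rw [hvx] at e1
  rw [hwθ] at e2
  rw [← e1, ← e2]
  exact AlgGrpLib.ptDim_eq_of_homeomorph (pullback.snd p b) (pullback.snd p a) h w

end Groth.Agent.GrpdField
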