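import Groth.Agent.GrpdField.Translate
import Mathlib.AlgebraicGeometry.IdealSheaf.Subscheme
import Mathlib.AlgebraicGeometry.PullbackCarrier
import Groth.Agent.SGA3xLib.SepFibre

/-!
# Closures and open maps, for groupoids on the spectrum of a field
-/

set_option autoImplicit false
set_option linter.style.haveILetI false

universe u

open CategoryTheory CategoryTheory.Limits AlgebraicGeometry TopologicalSpace

namespace Groth.Agent.GrpdField

open Groth.Agent.GrpdLib

/-- Over universally open maps, products of dense subsets are dense. -/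
theorem mem_closure_prod {X Y U : Scheme.{u}} (f : X ⟶ U) (g : Y ⟶ U)
    (hU : ∀ {Z : Scheme.{u}} (m : Z ⟶ U), UniversallyOpen m) (A : Set X) (B : Set Y) (p : ↥(pullback f g))
    (h₁ : pullback.fst f g p ∈ closure A) (h₂ : pullback.snd f g p ∈ closure B) :
    p ∈ closure (⇑(pullback.fst f g) ⁻¹' A ∩ ⇑(pullback.snd f g) ⁻¹' B) := by
  let iB := (Scheme.IdealSheafData.vanishingIdeal (⟨closure B, isClosed_closure⟩ : TopologicalSpace.Closeds Y)).subschemeι
  have hB : Set.range ⇑iB = closure B := by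
    rw [Scheme.IdealSheafData.range_subschemeι, Scheme.IdealSheafData.coe_support_vanishingIdeal]
    rfl
  let P := pullback f (iB ≫ g)
  let e : P ⟶ pullback f g := pullback.map f (iB ≫ g) f g (𝟙 X) iB (𝟙 U) (by simp) (by simp)
  have he : Set.range ⇑e = Set.univ ∩ ⇑(pullback.snd f g) ⁻¹' closure B := by
    rw [Scheme.Pullback.range_map, hB]
    simp
  have he₁ : e ≫ pullback.fst f g = pullback.fst f (iB ≫ g) := by
    simp only [e, pullback.lift_fst, Category.comp_id]
  haveI := hU (iB ≫ g)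
  rw [mem_closure_iff]
  intro O hO hp
  obtain ⟨p', hp'⟩ : p ∈ Set.range ⇑e := he.symm.subset ⟨trivial, h₂⟩
  have h1 : (pullback.fst f (iB ≫ g)) p' ∈ closure A := by
    rw [← he₁, Scheme.Hom.comp_apply, hp']
    exact h₁
  obtain ⟨_, ⟨q, hq, rfl⟩, hqA⟩ := mem_closure_iff.1 h1 _
    ((pullback.fst f (iB ≫ g)).isOpenMap _ (hO.preimage e.continuous)) ⟨p', (show e p' ∈ O from hp'.symm ▸ hp), rfl⟩
  have hq₁ : pullback.fst f g (e q) ∈ A := by rwa [← Scheme.Hom.comp_apply, he₁]
  have hq₂ : pullback.snd f g (e q) ∈ closure B := (he.subset ⟨q, rfl⟩).2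
  let x := pullback.fst f g (e q)
  let ix := X.fromSpecResidueField x
  let e' : pullback (ix ≫ f) g ⟶ pullback f g := pullback.map (ix ≫ f) g f g ix (𝟙 Y) (𝟙 U) (by simp) (by simp)
  have he' : Set.range ⇑e' = ⇑(pullback.fst f g) ⁻¹' {x} ∩ Set.univ := by
    rw [Scheme.Pullback.range_map, Scheme.range_fromSpecResidueField]
    simp
  have he₂ : e' ≫ pullback.snd f g = pullback.snd (ix ≫ f) g := by
    simp only [e', pullback.lift_snd, Category.comp_id]
  haveI := hU (ix ≫ f)
  obtain ⟨q', hq'⟩ : e q ∈ Set.range ⇑e' := he'.symm.subset ⟨rfl, trivial⟩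
  have h2 : (pullback.snd (ix ≫ f) g) q' ∈ closure B := by
    rw [← he₂, Scheme.Hom.comp_apply, hq']
    exact hq₂
  obtain ⟨_, ⟨w, hw, rfl⟩, hwB⟩ := mem_closure_iff.1 h2 _
    ((pullback.snd (ix ≫ f) g).isOpenMap _ (hO.preimage e'.continuous)) ⟨q', (show e' q' ∈ O from hq'.symm ▸ hq), rfl⟩
  refine ⟨e' w, hw, ?_, ?_⟩
  · show pullback.fst f g (e' w) ∈ A
    rw [show pullback.fst f g (e' w) = x from (he'.subset ⟨w, rfl⟩).1]
    exact hq₁
  · show pullback.snd f g (e' w) ∈ B
    rwa [← Scheme.Hom.comp_apply, he₂]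

variable {S : Scheme.{u}} (G : Grpd.GroupoidScheme S) {k : Type u} [Field k] (eU : G.U ≅ Spec (CommRingCat.of k))

theorem c_eq_cmp : G.c = cmp G (pullback.fst G.s G.t) (pullback.snd G.s G.t) pullback.condition := by
  unfold GrpdLib.cmp
  rw [show pullback.lift (pullback.fst G.s G.t) (pullback.snd G.s G.t) pullback.condition = 𝟙 _ from
    pullback.hom_ext (by simp) (by simp), Category.id_comp]

include eU in
theorem isOpenMap_c : IsOpenMap ⇑G.c := by
  let a₁ := pullback.fst G.s G.t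
  let a₂ := pullback.snd G.s G.t
  let Ψ : pullback G.s G.t ⟶ pullback G.t G.t :=
    pullback.lift a₁ G.c (by rw [c_eq_cmp, cmp_t])
  let b₁ := pullback.fst G.t G.t
  let b₂ := pullback.snd G.t G.t
  have hb : (b₁ ≫ G.i) ≫ G.s = b₂ ≫ G.t := by rw [i_comp_s]; exact pullback.condition
  let Θ : pullback G.t G.t ⟶ pullback G.s G.t :=
    pullback.lift b₁ (cmp G (b₁ ≫ G.i) b₂ hb) (by rw [cmp_t, i_comp_t])
  have hΨ₁ : Ψ ≫ b₁ = a₁ := pullback.lift_fst _ _ _
  have hΨ₂ : Ψ ≫ b₂ = G.c := pullback.lift_snd _ _ _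
  have h1 : Ψ ≫ Θ = 𝟙 _ := by
    apply pullback.hom_ext
    · simp only [Θ, Category.assoc, pullback.lift_fst, Category.id_comp, hΨ₁, a₁]
    · simp only [Θ, Category.assoc, pullback.lift_snd, Category.id_comp, comp_cmp]
      refine (cmp_congr G (show Ψ ≫ b₁ ≫ G.i = a₁ ≫ G.i by rw [reassoc_of% hΨ₁]) (hΨ₂.trans (c_eq_cmp G)) _ ?_).trans
        (cmp_inv_cmp G a₁ a₂ pullback.condition ?_)
      · rw [i_comp_s, cmp_t]
      · rw [i_comp_s, cmp_t]
  have h2 : Θ ≫ Ψ = 𝟙 _ := by
    apply pullback.hom_ext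
    · simp only [Ψ, Θ, Category.assoc, pullback.lift_fst, Category.id_comp, a₁, b₁]
    · simp only [Ψ, Category.assoc, pullback.lift_snd, Category.id_comp]
      rw [c_eq_cmp, comp_cmp]
      refine (cmp_congr G (pullback.lift_fst _ _ _) (pullback.lift_snd _ _ _) _ ?_).trans
        (cmp_cmp_inv G b₁ b₂ hb ?_)
      · rw [cmp_t, i_comp_t]
      · rw [cmp_t, i_comp_t]
  haveI : UniversallyOpen G.t := universallyOpen_toU G eU _
  let I : pullback G.s G.t ≅ pullback G.t G.t := ⟨Ψ, Θ, h1, h2⟩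
  have e : G.c = I.hom ≫ pullback.snd G.t G.t := hΨ₂.symm
  rw [e, Scheme.Hom.comp_base, TopCat.coe_comp]
  haveI : IsIso I.hom := I.isIso_hom
  exact (Scheme.Hom.isOpenMap _).comp I.hom.homeomorph.isOpenMap

include eU in
theorem isSeparated_R : G.R.IsSeparated := by
  haveI : IsAffine G.U := IsAffine.of_isIso eU.hom
  haveI : IsClosedImmersion G.e := by
    haveI : IsClosedImmersion (eU.inv ≫ G.e) :=
      SGA3xLib.isClosedImmersion_of_section (G.s ≫ eU.hom) (eU.inv ≫ G.e)
        (by rw [Category.assoc, reassoc_of% G.e_s, Iso.inv_hom_id])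
    exact (MorphismProperty.cancel_left_of_respectsIso @IsClosedImmersion eU.inv G.e).1 ‹_›
  haveI : IsSeparated G.t := by
    let b₁ := pullback.fst G.t G.t
    let b₂ := pullback.snd G.t G.t
    have hb : (b₁ ≫ G.i) ≫ G.s = b₂ ≫ G.t := by rw [i_comp_s]; exact pullback.condition
    let δ := cmp G (b₁ ≫ G.i) b₂ hb
    have hw : pullback.diagonal G.t ≫ δ = G.s ≫ G.e := by
      simp only [δ, comp_cmp]
      refine (cmp_congr G (show pullback.diagonal G.t ≫ b₁ ≫ G.i = G.i by
        rw [← Category.assoc, pullback.diagonal_fst, Category.id_comp]) (pullback.diagonal_snd G.t) _ ?_).trans ?_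
      · rw [G.i_s, Category.id_comp]
      · refine (cmp_congr G (Category.id_comp G.i).symm rfl _ (i_comp_s G (𝟙 G.R))).trans ?_
        exact (G.i_comp (𝟙 G.R)).trans (Category.id_comp _)
    have key : ∀ {T : Scheme.{u}} (l : T ⟶ pullback G.t G.t) (v : T ⟶ G.U), l ≫ δ = v ≫ G.e →
        l ≫ b₂ = l ≫ b₁ ∧ (l ≫ b₁) ≫ G.s = v := by
      intro T l v h
      have hv : (l ≫ b₁) ≫ G.s = v := by
        have := congrArg (· ≫ G.t) h
        simp only [δ, Category.assoc, cmp_t, G.e_t, Category.comp_id, G.i_t] at this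
        rwa [Category.assoc]
      refine ⟨?_, hv⟩
      have h0 : ((l ≫ b₁) ≫ G.i) ≫ G.s = (l ≫ b₂) ≫ G.t := by
        rw [Category.assoc (l ≫ b₁), G.i_s, Category.assoc, Category.assoc, pullback.condition]
      have h1 : cmp G ((l ≫ b₁) ≫ G.i) (l ≫ b₂) h0 = v ≫ G.e := by
        rw [← h]
        simp only [δ, comp_cmp]
        exact cmp_congr G (Category.assoc _ _ _) rfl _ _
      refine (cmp_cmp_inv G (l ≫ b₁) (l ≫ b₂) h0 (by rw [cmp_t, i_comp_t])).symm.trans ?_
      refine (cmp_congr G rfl (h1.trans (show v ≫ G.e = (l ≫ b₁) ≫ G.s ≫ G.e by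
        rw [← hv, Category.assoc])) _ ?_).trans (G.comp_e (l ≫ b₁))
      simp [G.e_t]
    have hp : IsPullback (pullback.diagonal G.t) G.s δ G.e := by
      refine ⟨⟨hw⟩, ⟨PullbackCone.IsLimit.mk hw (fun c => c.fst ≫ b₁) (fun c => ?_) (fun c => ?_)
        (fun c m h1 _ => ?_)⟩⟩
      · obtain ⟨h1, -⟩ := key c.fst c.snd c.condition
        apply pullback.hom_ext
        · simp [b₁]
        · simp [b₁, b₂] at h1 ⊢; exact h1.symm
      · exact (key c.fst c.snd c.condition).2
      · rw [← h1, Category.assoc, pullback.diagonal_fst, Category.comp_id]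
    exact ⟨MorphismProperty.of_isPullback hp.flip ‹IsClosedImmersion G.e›⟩
  constructor
  rw [← terminal.comp_from G.t]
  infer_instance

variable {G₁ : Grpd.GroupoidScheme S} {G} (f : Grpd.GroupoidScheme.Hom G₁ G) [IsIso f.fU]

include eU in
theorem c_mem_closure (p : ↥(pullback G.s G.t))
    (h₁ : pullback.fst G.s G.t p ∈ closure (Set.range ⇑f.fR))
    (h₂ : pullback.snd G.s G.t p ∈ closure (Set.range ⇑f.fR)) : G.c p ∈ closure (Set.range ⇑f.fR) := by
  refine map_mem_closure G.c.continuous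
    (mem_closure_prod G.s G.t (fun m => universallyOpen_toU G eU m) _ _ p h₁ h₂) fun q hq => ?_
  rw [c_eq_cmp]
  exact cmp_mem_image f _ _ _ q hq.1 hq.2

variable (G)

include eU in
theorem pr02_mem_closure (pr02 : pullback (pullback.snd G.pU G.pU) (pullback.fst G.pU G.pU) ⟶ pullback G.pU G.pU)
    (h0 : pr02 ≫ pullback.fst G.pU G.pU =
      pullback.fst (pullback.snd G.pU G.pU) (pullback.fst G.pU G.pU) ≫ pullback.fst G.pU G.pU)
    (h1 : pr02 ≫ pullback.snd G.pU G.pU =
      pullback.snd (pullback.snd G.pU G.pU) (pullback.fst G.pU G.pU) ≫ pullback.snd G.pU G.pU)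
    (p : ↥(pullback (pullback.snd G.pU G.pU) (pullback.fst G.pU G.pU)))
    (h₁ : pullback.fst (pullback.snd G.pU G.pU) (pullback.fst G.pU G.pU) p ∈ closure (Set.range ⇑G.j))
    (h₂ : pullback.snd (pullback.snd G.pU G.pU) (pullback.fst G.pU G.pU) p ∈ closure (Set.range ⇑G.j)) :
    pr02 p ∈ closure (Set.range ⇑G.j) := by
  refine map_mem_closure pr02.continuous
    (mem_closure_prod _ _ (fun m => universallyOpen_toU G eU m) _ _ p h₁ h₂) fun q hq => ?_
  have hj₁ : G.j ≫ pullback.fst G.pU G.pU = G.t := pullback.lift_fst _ _ _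
  have hj₂ : G.j ≫ pullback.snd G.pU G.pU = G.s := pullback.lift_snd _ _ _
  let J : pullback G.s G.t ⟶ pullback (pullback.snd G.pU G.pU) (pullback.fst G.pU G.pU) :=
    pullback.map G.s G.t _ _ G.j G.j (𝟙 G.U) (by rw [Category.comp_id, hj₂]) (by rw [Category.comp_id, hj₁])
  have hJ : J ≫ pr02 = G.c ≫ G.j := by
    apply pullback.hom_ext
    · rw [Category.assoc, h0, Category.assoc, hj₁, c_eq_cmp, cmp_t, pullback.lift_fst_assoc, Category.assoc, hj₁]
    · rw [Category.assoc, h1, Category.assoc, hj₂, c_eq_cmp, cmp_s, pullback.lift_snd_assoc, Category.assoc, hj₂]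
  obtain ⟨w, hw⟩ : q ∈ Set.range ⇑J := by
    rw [Scheme.Pullback.range_map]
    exact hq
  exact ⟨G.c w, by rw [← Scheme.Hom.comp_apply, ← hJ, Scheme.Hom.comp_apply, hw]⟩

end Groth.Agent.GrpdField
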