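import Groth.Prelude.Def_Grpd
import Groth.Agent.CommAlg6.DimMaps
import Mathlib.AlgebraicGeometry.Morphisms.Finite
import Mathlib.AlgebraicGeometry.Morphisms.Separated
import Mathlib.AlgebraicGeometry.Morphisms.UniversallyClosed
import Mathlib.AlgebraicGeometry.Sites.Fpqc
import Mathlib.AlgebraicGeometry.PullbackCarrier
import Mathlib.AlgebraicGeometry.ResidueField
import Mathlib.RingTheory.Flat.TorsionFree
import Mathlib.RingTheory.Spectrum.Prime.Topology
import Mathlib.RingTheory.Spectrum.Prime.Chevalley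
import Mathlib.RingTheory.Polynomial.Basic
import Mathlib.FieldTheory.IsAlgClosed.AlgebraicClosure
import Mathlib.FieldTheory.AlgebraicClosure

/-!
# Groupoids on the spectrum of a field: `j` is constant on specializations
-/

set_option autoImplicit false
set_option linter.style.haveILetI false

universe u

open CategoryTheory CategoryTheory.Limits AlgebraicGeometry Polynomial

noncomputable section

namespace Groth.Agent.GrpdField

/-- The images of a field in a finitely generated domain over it are algebraic. -/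
theorem isIntegral_of_finiteType {k D : Type u} [Field k] [CommRing D] [IsDomain D] (φt φs : k →+* D)
    (hft : φt.FiniteType) (c : k) : φt.IsIntegralElem (φs c) := by
  classical
  letI := φt.toAlgebra
  haveI : Algebra.FiniteType k D := hft
  let F : Subfield k :=
    { RingHom.eqLocus φt φs with
      inv_mem' := fun x hx => by
        rcases eq_or_ne x 0 with rfl | h0
        · simp
        · have hu : IsUnit (φt x) := (isUnit_iff_ne_zero.2 h0).map φt
          refine hu.mul_left_cancel ?_
          rw [← map_mul, mul_inv_cancel₀ h0, map_one, show φt x = φs x from hx, ← map_mul, mul_inv_cancel₀ h0, map_one] }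
  have hF : φs.comp F.subtype = φt.comp F.subtype := RingHom.ext fun x => x.2.symm
  by_cases hc : IsIntegral F c
  · obtain ⟨P, hP, hP'⟩ := hc
    refine ⟨P.map F.subtype, hP.map _, ?_⟩
    rw [eval₂_map, ← hF]
    change Polynomial.eval₂ (φs.comp F.subtype) (φs c) P = 0
    rw [← Polynomial.hom_eval₂]
    exact (congrArg φs hP').trans (map_zero φs)
  by_contra hy
  let ψ : k[X] →ₐ[k] D := aeval (φs c)
  have hinj : Function.Injective ψ := by
    rw [injective_iff_map_eq_zero]
    intro P hP
    by_contra hP0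
    exact hy ⟨P * C P.leadingCoeff⁻¹, monic_mul_leadingCoeff_inv hP0, by
      show (aeval (φs c)) (P * C P.leadingCoeff⁻¹) = 0
      rw [map_mul, show aeval (φs c) P = 0 from hP, zero_mul]⟩
  letI : Algebra k[X] D := ψ.toRingHom.toAlgebra
  haveI : IsScalarTower k k[X] D := IsScalarTower.of_algebraMap_eq fun r => (ψ.commutes r).symm
  haveI : Algebra.FiniteType k[X] D := Algebra.FiniteType.of_restrictScalars_finiteType k k[X] D
  haveI : Algebra.FinitePresentation k[X] D := Algebra.FinitePresentation.of_finiteType.1 inferInstance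
  haveI : Module.IsTorsionFree k[X] D := Module.isTorsionFree_iff_algebraMap_injective.2 hinj
  haveI : Module.Flat k[X] D := inferInstance
  have hopen : IsOpenMap (PrimeSpectrum.comap ψ.toRingHom) :=
    PrimeSpectrum.isOpenMap_comap_of_hasGoingDown_of_finitePresentation (R := k[X]) (S := D)
  obtain ⟨_, ⟨g, rfl⟩, hg0, hg⟩ := PrimeSpectrum.isTopologicalBasis_basic_opens.exists_subset_of_mem_open
    (show (PrimeSpectrum.comap ψ.toRingHom ⟨⊥, Ideal.isPrime_bot⟩) ∈ Set.range (PrimeSpectrum.comap ψ.toRingHom) from ⟨_, rfl⟩)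
    hopen.isOpen_range
  have hg0' : g ≠ 0 := fun h => hg0 (by rw [h]; exact Submodule.zero_mem _)
  let Ω := AlgebraicClosure k
  letI : Algebra F Ω := ((algebraMap k Ω).comp F.subtype).toAlgebra
  haveI : IsAlgClosed (algebraicClosure F Ω) := IsAlgClosure.isAlgClosed F
  obtain ⟨α, hα⟩ : ∃ α : algebraicClosure F Ω, aeval (α : Ω) g ≠ 0 := by
    by_contra h
    push Not at h
    have hfin : (g.rootSet Ω).Finite := rootSet_finite g Ω
    have : Set.Infinite (Set.range fun α : algebraicClosure F Ω => (α : Ω)) :=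
      Set.infinite_range_of_injective Subtype.val_injective
    exact this (hfin.subset fun x ⟨α, hα⟩ => hα ▸ (mem_rootSet_of_ne hg0').2 (h α))
  have hint : IsIntegral F (α : Ω) := (mem_algebraicClosure_iff'.1 α.2)
  let m : PrimeSpectrum k[X] := ⟨RingHom.ker (aeval (R := k) (α : Ω)), RingHom.ker_isPrime _⟩
  obtain ⟨Q, hQ⟩ : m ∈ Set.range (PrimeSpectrum.comap ψ.toRingHom) := hg hα
  have hmem : (minpoly F (α : Ω)).map F.subtype ∈ m.asIdeal := by
    show aeval (α : Ω) _ = 0
    rw [aeval_def, eval₂_map]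
    exact minpoly.aeval F (α : Ω)
  rw [← hQ] at hmem
  have h1 : ψ ((minpoly F (α : Ω)).map F.subtype) = φs (eval₂ F.subtype c (minpoly F (α : Ω))) := by
    show eval₂ φt (φs c) _ = _
    rw [eval₂_map, ← hF, Polynomial.hom_eval₂]
  have h2 : eval₂ F.subtype c (minpoly F (α : Ω)) ≠ 0 := fun h => hc ⟨_, minpoly.monic hint, h⟩
  exact Q.isPrime.ne_top (Ideal.eq_top_of_isUnit_mem _ (show φs _ ∈ Q.asIdeal from h1 ▸ hmem)
    ((isUnit_iff_ne_zero.2 h2).map φs))

section

variable {S : Scheme.{u}} (G : Grpd.GroupoidScheme S) (k : Type u) [Field k] (eU : G.U ≅ Spec (CommRingCat.of k))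

include eU in
theorem subsingleton_U : Subsingleton G.U :=
  @Function.Injective.subsingleton _ _ _ eU.hom.homeomorph.injective (inferInstanceAs (Subsingleton (PrimeSpectrum k)))

include eU in
theorem jacobson [LocallyOfFiniteType G.t] : JacobsonSpace G.R := by
  haveI : LocallyOfFiniteType (G.t ≫ eU.hom) := inferInstance
  exact LocallyOfFiniteType.jacobsonSpace (G.t ≫ eU.hom)

include eU in
/-- `j` takes the same value at a point and at its specializations. -/
theorem j_eq_of_specializes [LocallyOfFiniteType G.t] {r r₀ : G.R} (h : r ⤳ r₀) : G.j r = G.j r₀ := by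
  obtain ⟨_, ⟨V, hV, rfl⟩, hr₀, -⟩ := G.R.isBasis_affineOpens.exists_subset_of_mem_open (Set.mem_univ r₀) isOpen_univ
  have hr : r ∈ V := h.mem_open V.isOpen hr₀
  obtain ⟨p, hp⟩ : r ∈ Set.range hV.fromSpec := by rw [hV.range_fromSpec]; exact hr
  obtain ⟨p₀, hp₀⟩ : r₀ ∈ Set.range hV.fromSpec := by rw [hV.range_fromSpec]; exact hr₀
  have hle : p ⤳ p₀ := by
    rw [← hV.fromSpec.isOpenEmbedding.isInducing.specializes_iff, hp, hp₀]; exact h
  let P : PrimeSpectrum Γ(G.R, V) := p
  haveI := P.isPrime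
  let D := Γ(G.R, V) ⧸ P.asIdeal
  let m : Spec (CommRingCat.of D) ⟶ G.R := Spec.map (CommRingCat.ofHom (Ideal.Quotient.mk P.asIdeal)) ≫ hV.fromSpec
  have hrange : r ∈ Set.range m ∧ r₀ ∈ Set.range m := by
    have : ∀ q : PrimeSpectrum Γ(G.R, V), P.asIdeal ≤ q.asIdeal → hV.fromSpec q ∈ Set.range m := fun q hq => by
      obtain ⟨q', hq'⟩ : q ∈ Set.range (PrimeSpectrum.comap (Ideal.Quotient.mk P.asIdeal)) := by
        rw [range_comap_of_surjective _ _ Ideal.Quotient.mk_surjective, Ideal.mk_ker]; exact hq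
      exact ⟨q', (Scheme.Hom.comp_apply _ _ _).trans (congrArg hV.fromSpec hq')⟩
    exact ⟨hp ▸ this p le_rfl, hp₀ ▸ this p₀ ((PrimeSpectrum.le_iff_specializes P p₀).2 hle)⟩
  haveI : IsClosedImmersion (Spec.map (CommRingCat.ofHom (Ideal.Quotient.mk P.asIdeal))) :=
    IsClosedImmersion.spec_of_surjective _ Ideal.Quotient.mk_surjective
  let t' := Spec.preimage (m ≫ G.t ≫ eU.hom)
  let s' := Spec.preimage (m ≫ G.s ≫ eU.hom)
  have ht' : Spec.map t' = m ≫ G.t ≫ eU.hom := Spec.map_preimage _
  have hs' : Spec.map s' = m ≫ G.s ≫ eU.hom := Spec.map_preimage _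
  have hft : t'.hom.FiniteType :=
    (HasRingHomProperty.Spec_iff (P := @LocallyOfFiniteType)).1 (by rw [ht']; infer_instance)
  letI : Algebra k D := t'.hom.toAlgebra
  let Cs : Subalgebra k D := Algebra.adjoin k (Set.range s'.hom)
  haveI : Algebra.IsIntegral k Cs := Algebra.IsIntegral.adjoin fun x hx => by
    obtain ⟨c, rfl⟩ := hx
    exact isIntegral_of_finiteType t'.hom s'.hom hft c
  have hfield : IsField Cs := isField_of_isIntegral_of_isField' (Field.toIsField k)
  letI := hfield.toField
  let ι : CommRingCat.of Cs ⟶ CommRingCat.of D := CommRingCat.ofHom Cs.val.toRingHom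
  let ct : CommRingCat.of k ⟶ CommRingCat.of Cs := CommRingCat.ofHom (algebraMap k Cs)
  let cs : CommRingCat.of k ⟶ CommRingCat.of Cs :=
    CommRingCat.ofHom (RingHom.codRestrict s'.hom Cs fun c => Algebra.subset_adjoin ⟨c, rfl⟩)
  haveI : Flat (Spec.map ι) := (HasRingHomProperty.Spec_iff (P := @Flat)).2 (by
    letI := ι.hom.toAlgebra
    exact (inferInstanceAs (Module.Flat Cs D)))
  haveI : Surjective (Spec.map ι) := ⟨fun z =>
    ⟨hrange.1.choose, Subsingleton.elim (α := PrimeSpectrum Cs) _ _⟩⟩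
  have ht : Spec.map ι ≫ Spec.map ct ≫ eU.inv = m ≫ G.t := by
    rw [← Spec.map_comp_assoc, show ct ≫ ι = t' from rfl, ht']
    simp
  have hs : Spec.map ι ≫ Spec.map cs ≫ eU.inv = m ≫ G.s := by
    rw [← Spec.map_comp_assoc, show cs ≫ ι = s' from rfl, hs']
    simp
  have hw : (Spec.map ct ≫ eU.inv) ≫ G.pU = (Spec.map cs ≫ eU.inv) ≫ G.pU := by
    rw [← cancel_epi (Spec.map ι)]
    simp only [Category.assoc]
    rw [reassoc_of% ht, reassoc_of% hs, G.t_over, G.s_over]
  have hm : m ≫ G.j = Spec.map ι ≫ pullback.lift (Spec.map ct ≫ eU.inv) (Spec.map cs ≫ eU.inv) hw := by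
    apply pullback.hom_ext
    · exact (Category.assoc _ _ _).trans ((congrArg (m ≫ ·) (pullback.lift_fst _ _ _)).trans (ht.symm.trans
        ((congrArg (Spec.map ι ≫ ·) (pullback.lift_fst _ _ hw).symm).trans (Category.assoc _ _ _).symm)))
    · exact (Category.assoc _ _ _).trans ((congrArg (m ≫ ·) (pullback.lift_snd _ _ _)).trans (hs.symm.trans
        ((congrArg (Spec.map ι ≫ ·) (pullback.lift_snd _ _ hw).symm).trans (Category.assoc _ _ _).symm)))
  have key : ∀ a b : Spec (CommRingCat.of D), G.j (m a) = G.j (m b) := fun a b => by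
    rw [← Scheme.Hom.comp_apply, ← Scheme.Hom.comp_apply, hm, Scheme.Hom.comp_apply, Scheme.Hom.comp_apply,
      Subsingleton.elim (α := PrimeSpectrum Cs) (Spec.map ι a) (Spec.map ι b)]
  obtain ⟨a, ha⟩ := hrange.1
  obtain ⟨b, hb⟩ := hrange.2
  rw [← ha, ← hb]
  exact key a b

end

section

variable {S : Scheme.{u}} (G : Grpd.GroupoidScheme S)

theorem j_fst : G.j ≫ pullback.fst G.pU G.pU = G.t := pullback.lift_fst _ _ _

theorem j_snd : G.j ≫ pullback.snd G.pU G.pU = G.s := pullback.lift_snd _ _ _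

theorem stab_t : pullback.fst G.j G.diag ≫ G.t = G.stabilizerToU := by
  rw [← j_fst G, ← Category.assoc, pullback.condition, Category.assoc,
    show G.diag ≫ pullback.fst G.pU G.pU = 𝟙 _ from pullback.lift_fst _ _ _, Category.comp_id]
  rfl

theorem stab_s : pullback.fst G.j G.diag ≫ G.s = G.stabilizerToU := by
  rw [← j_snd G, ← Category.assoc, pullback.condition, Category.assoc,
    show G.diag ≫ pullback.snd G.pU G.pU = 𝟙 _ from pullback.lift_snd _ _ _, Category.comp_id]
  rfl

theorem c_natural {T T' : Scheme.{u}} (f : T' ⟶ T) (α β : T ⟶ G.R) (h : α ≫ G.s = β ≫ G.t) :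
    f ≫ pullback.lift α β h ≫ G.c =
      pullback.lift (f ≫ α) (f ≫ β) (by rw [Category.assoc, h, Category.assoc]) ≫ G.c := by
  rw [← Category.assoc]
  congr 1
  apply pullback.hom_ext
  · rw [Category.assoc, pullback.lift_fst, pullback.lift_fst]
  · rw [Category.assoc, pullback.lift_snd, pullback.lift_snd]

theorem c_congr {T : Scheme.{u}} {α α' β β' : T ⟶ G.R} (hα : α = α') (hβ : β = β') (h : α ≫ G.s = β ≫ G.t) :
    pullback.lift α β h ≫ G.c = pullback.lift α' β' (hα ▸ hβ ▸ h) ≫ G.c := by
  subst hα hβ; rfl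

theorem c_inv_cancel {T : Scheme.{u}} (a b : T ⟶ G.R) (h : a ≫ G.s = b ≫ G.s) :
    pullback.lift (pullback.lift a (b ≫ G.i) (by rw [Category.assoc, G.i_t, h]) ≫ G.c) b
      (by rw [G.comp_s, Category.assoc, G.i_s]) ≫ G.c = a := by
  rw [G.assoc a (b ≫ G.i) b _ (by rw [Category.assoc, G.i_s])]
  refine (c_congr G rfl ((G.i_comp b).trans (by simp only [← Category.assoc, h])) _).trans (G.comp_e a)

theorem c_cancel_inv {T : Scheme.{u}} (g b : T ⟶ G.R) (h : g ≫ G.s = b ≫ G.t) :
    pullback.lift (pullback.lift g b h ≫ G.c) (b ≫ G.i)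
      (by rw [G.comp_s, Category.assoc, G.i_t]) ≫ G.c = g := by
  rw [G.assoc g b (b ≫ G.i) h (by rw [Category.assoc, G.i_t])]
  refine (c_congr G rfl ((G.comp_i b).trans (by simp only [← Category.assoc, h])) _).trans (G.comp_e g)

/-- For an arrow-valued point `ρ`, `R ×_{j} ρ ≅ stabilizer ×_U ρ`. -/
def fibreIso {W : Scheme.{u}} (ρ : W ⟶ G.R) :
    pullback G.j (ρ ≫ G.j) ≅ pullback G.stabilizerToU (ρ ≫ G.t) :=
  have ha : (pullback.fst G.j (ρ ≫ G.j)) ≫ G.t = pullback.snd G.j (ρ ≫ G.j) ≫ ρ ≫ G.t ∧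
      (pullback.fst G.j (ρ ≫ G.j)) ≫ G.s = pullback.snd G.j (ρ ≫ G.j) ≫ ρ ≫ G.s := by
    have h := pullback.condition (f := G.j) (g := ρ ≫ G.j)
    refine ⟨?_, ?_⟩
    · rw [← j_fst G, ← Category.assoc, h]; simp only [Category.assoc]
    · rw [← j_snd G, ← Category.assoc, h]; simp only [Category.assoc]
  have hg : (pullback.fst G.stabilizerToU (ρ ≫ G.t) ≫ pullback.fst G.j G.diag) ≫ G.t =
        pullback.snd G.stabilizerToU (ρ ≫ G.t) ≫ ρ ≫ G.t ∧
      (pullback.fst G.stabilizerToU (ρ ≫ G.t) ≫ pullback.fst G.j G.diag) ≫ G.s =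
        pullback.snd G.stabilizerToU (ρ ≫ G.t) ≫ ρ ≫ G.t :=
    ⟨(Category.assoc _ _ _).trans ((congrArg (_ ≫ ·) (stab_t G)).trans pullback.condition),
      (Category.assoc _ _ _).trans ((congrArg (_ ≫ ·) (stab_s G)).trans pullback.condition)⟩
  { hom := pullback.lift
      (pullback.lift (pullback.lift (pullback.fst G.j (ρ ≫ G.j)) ((pullback.snd G.j (ρ ≫ G.j) ≫ ρ) ≫ G.i)
          (by rw [ha.2]; simp [G.i_t]) ≫ G.c) (pullback.snd G.j (ρ ≫ G.j) ≫ ρ ≫ G.t) (by
        apply pullback.hom_ext
        · rw [Category.assoc, j_fst, G.comp_t, ha.1, Category.assoc,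
            show G.diag ≫ pullback.fst G.pU G.pU = 𝟙 _ from pullback.lift_fst _ _ _, Category.comp_id]
        · rw [Category.assoc, j_snd, G.comp_s, Category.assoc _ G.diag,
            show G.diag ≫ pullback.snd G.pU G.pU = 𝟙 _ from pullback.lift_snd _ _ _, Category.comp_id]
          simp [G.i_s]))
      (pullback.snd G.j (ρ ≫ G.j)) (pullback.lift_snd _ _ _)
    inv := pullback.lift
      (pullback.lift (pullback.fst G.stabilizerToU (ρ ≫ G.t) ≫ pullback.fst G.j G.diag)
          (pullback.snd G.stabilizerToU (ρ ≫ G.t) ≫ ρ) (by rw [hg.2]; simp) ≫ G.c)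
      (pullback.snd G.stabilizerToU (ρ ≫ G.t)) (by
        apply pullback.hom_ext
        · rw [Category.assoc, j_fst, G.comp_t, hg.1]; simp only [Category.assoc, j_fst]
        · rw [Category.assoc, j_snd, G.comp_s]; simp only [Category.assoc, j_snd])
    hom_inv_id := by
      apply pullback.hom_ext
      · rw [Category.assoc, pullback.lift_fst, Category.id_comp, c_natural G]
        refine (c_congr G ?_ ?_ _).trans (c_inv_cancel G (pullback.fst G.j (ρ ≫ G.j))
          (pullback.snd G.j (ρ ≫ G.j) ≫ ρ) (ha.2.trans (Category.assoc _ _ _).symm))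
        · erw [pullback.lift_fst_assoc, pullback.lift_fst]
        · erw [pullback.lift_snd_assoc]
      · exact (Category.assoc _ _ _).trans ((congrArg (_ ≫ ·) (pullback.lift_snd _ _ _)).trans
          ((pullback.lift_snd _ _ _).trans (Category.id_comp _).symm))
    inv_hom_id := by
      apply pullback.hom_ext
      · refine (Category.assoc _ _ _).trans ((congrArg (_ ≫ ·) (pullback.lift_fst _ _ _)).trans ?_)
        refine Eq.trans ?_ (Category.id_comp _).symm
        apply pullback.hom_ext
        · refine (Category.assoc _ _ _).trans ((congrArg (_ ≫ ·) (pullback.lift_fst _ _ _)).trans ?_)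
          rw [c_natural G]
          refine (c_congr G ?_ ?_ _).trans (c_cancel_inv G
            (pullback.fst G.stabilizerToU (ρ ≫ G.t) ≫ pullback.fst G.j G.diag)
            (pullback.snd G.stabilizerToU (ρ ≫ G.t) ≫ ρ) (hg.2.trans (Category.assoc _ _ _).symm))
          · erw [pullback.lift_fst]
          · erw [← Category.assoc, pullback.lift_snd_assoc]
        · refine (Category.assoc _ _ _).trans ((congrArg (_ ≫ ·) (pullback.lift_snd _ _ _)).trans ?_)
          erw [pullback.lift_snd_assoc]
          exact (pullback.condition (f := G.stabilizerToU) (g := ρ ≫ G.t)).symm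
      · exact (Category.assoc _ _ _).trans ((congrArg (_ ≫ ·) (pullback.lift_snd _ _ _)).trans
          ((pullback.lift_snd _ _ _).trans (Category.id_comp _).symm)) }

variable (k : Type u) [Field k] (eU : G.U ≅ Spec (CommRingCat.of k))

include eU in
theorem topologicalKrullDim_R_eq [LocallyOfFiniteType G.t] :
    topologicalKrullDim G.R = topologicalKrullDim G.stabilizer := by
  haveI := jacobson G k eU
  haveI := subsingleton_U G k eU
  haveI : IsAffine G.U := IsAffine.of_isIso eU.hom
  haveI : JacobsonSpace G.U := JacobsonSpace.of_isOpenEmbedding eU.hom.isOpenEmbedding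
  haveI : IsSeparated G.pU := by
    haveI : IsSeparated (G.pU ≫ terminal.from S) := by
      rw [Subsingleton.elim (G.pU ≫ terminal.from S) (terminal.from G.U)]; infer_instance
    exact IsSeparated.of_comp G.pU (terminal.from S)
  have main : ∀ r₀ : G.R, IsClosed {r₀} →
      ∃ P : Scheme.{u}, ∃ f : P ⟶ G.R, IsFinite f ∧ Set.range f = G.j ⁻¹' {G.j r₀} ∧
        topologicalKrullDim P = topologicalKrullDim G.stabilizer := by
    intro r₀ hr₀
    let ρ := G.R.fromSpecResidueField r₀
    haveI : LocallyOfFiniteType ρ := isClosed_singleton_iff_locallyOfFiniteType.1 hr₀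
    haveI : IsFinite (ρ ≫ G.t) := isFinite_iff_locallyOfFiniteType_of_jacobsonSpace.2 inferInstance
    haveI : IsFinite (ρ ≫ G.j) := by
      haveI : IsFinite ((ρ ≫ G.j) ≫ pullback.fst G.pU G.pU) := by
        rw [Category.assoc, Grpd.GroupoidScheme.j, pullback.lift_fst]; infer_instance
      exact IsFinite.of_comp (ρ ≫ G.j) (pullback.fst G.pU G.pU)
    haveI : Surjective (ρ ≫ G.t) :=
      ⟨fun x => ⟨(inferInstance : Nonempty (Spec (G.R.residueField r₀))).some, Subsingleton.elim _ _⟩⟩
    refine ⟨pullback G.j (ρ ≫ G.j), pullback.fst _ _, inferInstance, ?_, ?_⟩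
    · rw [Scheme.Pullback.range_fst, Scheme.Hom.comp_base, TopCat.coe_comp, Set.range_comp,
        Scheme.range_fromSpecResidueField, Set.image_singleton]
    · rw [(fibreIso G ρ).hom.homeomorph.isHomeomorph.topologicalKrullDim_eq]
      let q := pullback.fst G.stabilizerToU (ρ ≫ G.t)
      refine le_antisymm ?_ ?_
      · exact CommAlg6.topologicalKrullDim_le_of_fibres q.continuous
          fun x x' h e => CommAlg6.eq_of_specializes_of_locallyQuasiFinite q h e
      · exact CommAlg6.topologicalKrullDim_le_of_specializingMap q.surjective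
          q.isClosedMap.specializingMap
  refine le_antisymm ?_ ?_
  · rw [CommAlg6.topologicalKrullDim_eq_krullDim_points (X := G.R)]
    letI := specializationOrder G.R
    refine iSup_le fun p => ?_
    obtain ⟨r₀, hr₀', hr₀⟩ := nonempty_inter_closedPoints (X := G.R) (Z := closure {p.head})
      ⟨p.head, subset_closure rfl⟩ isClosed_closure.isLocallyClosed
    have hp : ∀ i, p i ∈ G.j ⁻¹' {G.j r₀} := fun i => by
      have h1 : p i ⤳ p.head := LTSeries.head_le p i
      exact j_eq_of_specializes G k eU (h1.trans (specializes_iff_mem_closure.2 hr₀'))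
    obtain ⟨P, f, hf, hrange, hdim⟩ := main r₀ hr₀
    rw [← hdim]
    have hcl : IsClosed (G.j ⁻¹' {G.j r₀}) := hrange ▸ f.isClosedMap.isClosed_range
    haveI : QuasiSober (G.j ⁻¹' {G.j r₀}) := hcl.isClosedEmbedding_subtypeVal.quasiSober
    letI := specializationOrder (G.j ⁻¹' {G.j r₀})
    refine le_trans ?_ (CommAlg6.topologicalKrullDim_le_of_specializingMap
      (f := fun x => (⟨f x, hrange ▸ ⟨x, rfl⟩⟩ : G.j ⁻¹' {G.j r₀})) ?_ ?_)
    · rw [CommAlg6.topologicalKrullDim_eq_krullDim_points]
      let q : @LTSeries (G.j ⁻¹' {G.j r₀}) (specializationOrder _).toPreorder :=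
        { length := p.length, toFun := fun i => ⟨p i, hp i⟩, step := fun i => ?_ }
      refine le_trans ?_ (@Order.LTSeries.length_le_krullDim _ (specializationOrder _).toPreorder q)
      · exact le_rfl
      · have h := p.step i
        exact ⟨Topology.IsInducing.subtypeVal.specializes_iff.1 h.le,
          fun h' => h.not_ge (Topology.IsInducing.subtypeVal.specializes_iff.2 h')⟩
    · exact fun ⟨y, hy⟩ => by
        obtain ⟨x, hx⟩ := hrange.symm ▸ hy
        exact ⟨x, Subtype.ext hx⟩
    · exact (f.isClosedMap.codRestrict _).specializingMap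
  · obtain ⟨r₀, -, hr₀⟩ := nonempty_inter_closedPoints (X := G.R) (Z := Set.univ)
      ⟨G.e (eU.inv (IsLocalRing.closedPoint k)), trivial⟩ isClosed_univ.isLocallyClosed
    obtain ⟨P, f, hf, -, hdim⟩ := main r₀ hr₀
    rw [← hdim]
    exact CommAlg6.topologicalKrullDim_le_of_fibres f.continuous
      fun x x' h e => CommAlg6.eq_of_specializes_of_locallyQuasiFinite f h e

end

end Groth.Agent.GrpdField
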