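import Groth.Agent.GrpdField.Closures
import Groth.Agent.AbVarLib.PerfectReduced
import Groth.Agent.ModPairLib.MProd
import Groth.Agent.Props12.KerReduced
import Mathlib.AlgebraicGeometry.Morphisms.SchemeTheoreticallyDominant

/-!
# Images of groupoid homomorphisms over the spectrum of a field
-/

set_option autoImplicit false
set_option backward.isDefEq.respectTransparency.types false
set_option linter.style.haveILetI false

universe u

open CategoryTheory Limits AlgebraicGeometry TensorProduct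

noncomputable section

namespace Groth.Agent.GrpdField

open Groth.Agent.GrpdLib

/-- Over a perfect field a tensor product of reduced algebras is reduced. -/
theorem isReduced_tensor_perfect (k A B : Type u) [Field k] [PerfectField k] [CommRing A] [Algebra k A]
    [_root_.IsReduced A] [CommRing B] [Algebra k B] [_root_.IsReduced B] : _root_.IsReduced (A ⊗[k] B) :=
  IsReduced.tensorProduct_of_flat_of_forall_fg fun B₀ hB => by
    haveI : Algebra.FiniteType k B₀ := B₀.fg_iff_finiteType.mp hB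
    haveI : _root_.IsReduced B₀ := isReduced_of_injective B₀.val Subtype.val_injective
    haveI : IsNoetherianRing B₀ := Algebra.FiniteType.isNoetherianRing k B₀
    haveI : Fintype (minimalPrimes B₀) := (minimalPrimes.finite_of_isNoetherianRing B₀).fintype
    haveI (p : minimalPrimes B₀) : p.1.IsPrime := p.2.1.1
    haveI (p : minimalPrimes B₀) : _root_.IsReduced (A ⊗[k] p.1.ResidueField) := by
      haveI := AbVarLib.isReduced_field_tensor_perfect k p.1.ResidueField A
      exact isReduced_of_injective (Algebra.TensorProduct.comm k A p.1.ResidueField)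
        (Algebra.TensorProduct.comm k A p.1.ResidueField).injective
    let φ : B₀ →ₐ[k] ∀ p : minimalPrimes B₀, p.1.ResidueField :=
      AlgHom.pi fun p => IsScalarTower.toAlgHom k B₀ p.1.ResidueField
    have hφ : Function.Injective φ := by
      rw [injective_iff_map_eq_zero]
      intro a ha
      have hmem : a ∈ sInf (minimalPrimes B₀) := Submodule.mem_sInf.2 fun p hp => by
        haveI : Ideal.IsPrime p := hp.1.1
        exact Ideal.algebraMap_residueField_eq_zero.1 (congrFun ha ⟨p, hp⟩)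
      rwa [show sInf (minimalPrimes B₀) = (⊥ : Ideal B₀).radical from Ideal.sInf_minimalPrimes,
        Ideal.radical_eq_iff.2 (by rwa [Ideal.isRadical_bot_iff]), Submodule.mem_bot] at hmem
    classical
    exact isReduced_of_injective
      ((Algebra.TensorProduct.piRight k k A fun p : minimalPrimes B₀ => p.1.ResidueField).toAlgHom.comp
        (Algebra.TensorProduct.map (AlgHom.id k A) φ))
      ((Algebra.TensorProduct.piRight k k A fun p : minimalPrimes B₀ => p.1.ResidueField).injective.comp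
        (Module.Flat.lTensor_preserves_injective_linearMap φ.toLinearMap hφ))

theorem isReduced_pullback_affine {k : Type u} [Field k] [PerfectField k] {R T : CommRingCat.{u}}
    (f : Spec R ⟶ Spec (CommRingCat.of k)) (g : Spec T ⟶ Spec (CommRingCat.of k))
    (hR : IsReduced (Spec R)) (hT : IsReduced (Spec T)) : IsReduced (pullback f g) := by
  obtain ⟨φ, rfl⟩ := Spec.map_surjective f
  obtain ⟨ψ, rfl⟩ := Spec.map_surjective g
  algebraize [φ.hom, ψ.hom]
  haveI : _root_.IsReduced R :=
    isReduced_of_injective (Scheme.ΓSpecIso R).inv.hom (Scheme.ΓSpecIso R).commRingCatIsoToRingEquiv.symm.injective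
  haveI : _root_.IsReduced T :=
    isReduced_of_injective (Scheme.ΓSpecIso T).inv.hom (Scheme.ΓSpecIso T).commRingCatIsoToRingEquiv.symm.injective
  haveI := isReduced_tensor_perfect k R T
  haveI : IsReduced (Spec (CommRingCat.of (R ⊗[k] T))) := inferInstance
  exact isReduced_of_isOpenImmersion (pullbackSpecIso k R T).hom

/-- Over a perfect field a product of reduced schemes is reduced. -/
theorem isReduced_pullback_perfect {k : Type u} [Field k] [PerfectField k] {X Y : Scheme.{u}}
    (f : X ⟶ Spec (CommRingCat.of k)) (g : Y ⟶ Spec (CommRingCat.of k)) [IsReduced X] [IsReduced Y] :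
    IsReduced (pullback f g) := by
  refine @IsReduced.of_openCover _ (Scheme.Pullback.openCoverOfLeft X.affineCover f g) fun i => ?_
  show IsReduced (pullback (X.affineCover.f i ≫ f) g)
  haveI : IsReduced (X.affineCover.X i) := isReduced_of_isOpenImmersion (X.affineCover.f i)
  refine @IsReduced.of_openCover _ (Scheme.Pullback.openCoverOfRight Y.affineCover (X.affineCover.f i ≫ f) g) fun j => ?_
  show IsReduced (pullback (X.affineCover.f i ≫ f) (Y.affineCover.f j ≫ g))
  haveI : IsReduced (Y.affineCover.X j) := isReduced_of_isOpenImmersion (Y.affineCover.f j)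
  exact isReduced_pullback_affine (X.affineCover.f i ≫ f) (Y.affineCover.f j ≫ g) ‹_› ‹_›

variable {S : Scheme.{u}}

/-- The pair groupoid of `U` over `S`. -/
def pairGrpd (G : Grpd.GroupoidScheme S) : Grpd.GroupoidScheme S where
  U := G.U
  R := pullback G.pU G.pU
  pU := G.pU
  pR := pullback.fst G.pU G.pU ≫ G.pU
  s := pullback.snd G.pU G.pU
  t := pullback.fst G.pU G.pU
  e := pullback.lift (𝟙 G.U) (𝟙 G.U) rfl
  i := (pullbackSymmetry G.pU G.pU).hom
  c := pullback.lift (pullback.fst _ _ ≫ pullback.fst G.pU G.pU) (pullback.snd _ _ ≫ pullback.snd G.pU G.pU) (by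
    rw [Category.assoc, Category.assoc, pullback.condition (f := G.pU) (g := G.pU), pullback.condition_assoc,
      pullback.condition (f := G.pU) (g := G.pU)])
  s_over := pullback.condition.symm
  t_over := rfl
  comp_s α β h := by simp only [Category.assoc, pullback.lift_snd, pullback.lift_snd_assoc]
  comp_t α β h := by simp only [Category.assoc, pullback.lift_fst, pullback.lift_fst_assoc]
  assoc α β γ h₁ h₂ := by
    apply pullback.hom_ext <;>
      simp only [Category.assoc, pullback.lift_fst, pullback.lift_fst_assoc, pullback.lift_snd, pullback.lift_snd_assoc]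
  e_s := pullback.lift_snd _ _ _
  e_t := pullback.lift_fst _ _ _
  comp_e α := by
    apply pullback.hom_ext <;>
      simp only [Category.assoc, pullback.lift_fst, pullback.lift_fst_assoc, pullback.lift_snd, pullback.lift_snd_assoc,
        Category.comp_id]
  e_comp α := by
    apply pullback.hom_ext <;>
      simp only [Category.assoc, pullback.lift_fst, pullback.lift_fst_assoc, pullback.lift_snd, pullback.lift_snd_assoc,
        Category.comp_id]
  i_s := pullbackSymmetry_hom_comp_snd _ _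
  i_t := pullbackSymmetry_hom_comp_fst _ _
  comp_i α := by
    apply pullback.hom_ext <;>
      simp only [Category.assoc, pullback.lift_fst, pullback.lift_fst_assoc, pullback.lift_snd, pullback.lift_snd_assoc,
        pullbackSymmetry_hom_comp_fst, pullbackSymmetry_hom_comp_snd, Category.comp_id]
  i_comp α := by
    apply pullback.hom_ext <;>
      simp only [Category.assoc, pullback.lift_fst, pullback.lift_fst_assoc, pullback.lift_snd, pullback.lift_snd_assoc,
        pullbackSymmetry_hom_comp_fst, pullbackSymmetry_hom_comp_snd, Category.comp_id]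

/-- `j` as a homomorphism to the pair groupoid. -/
def toPair (G : Grpd.GroupoidScheme S) : Grpd.GroupoidScheme.Hom G (pairGrpd G) where
  fU := 𝟙 G.U
  fR := G.j
  fU_over := Category.id_comp _
  comm_s := (pullback.lift_snd _ _ _).trans (Category.comp_id _).symm
  comm_t := (pullback.lift_fst _ _ _).trans (Category.comp_id _).symm
  comm_c := fun α β h => by
    have hf : G.j ≫ pullback.fst G.pU G.pU = G.t := pullback.lift_fst _ _ _
    have hs : G.j ≫ pullback.snd G.pU G.pU = G.s := pullback.lift_snd _ _ _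
    dsimp only [pairGrpd]
    apply pullback.hom_ext
    · simp only [Category.assoc, hf, pullback.lift_fst, pullback.lift_fst_assoc]
      simpa only [Category.assoc] using G.comp_t α β h
    · simp only [Category.assoc, hs, pullback.lift_snd, pullback.lift_snd_assoc]
      simpa only [Category.assoc] using G.comp_s α β h

variable (G : Grpd.GroupoidScheme S)

theorem cmp_sub {R' T : Scheme.{u}} (j : R' ⟶ G.R) (cs : pullback (j ≫ G.s) (j ≫ G.t) ⟶ R')
    (hcs : cs ≫ j = cmp G (pullback.fst (j ≫ G.s) (j ≫ G.t) ≫ j) (pullback.snd (j ≫ G.s) (j ≫ G.t) ≫ j)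
      (by rw [Category.assoc, Category.assoc]; exact pullback.condition))
    (α β : T ⟶ R') (h : α ≫ j ≫ G.s = β ≫ j ≫ G.t) :
    (pullback.lift α β h ≫ cs) ≫ j = cmp G (α ≫ j) (β ≫ j) (by rw [Category.assoc, Category.assoc]; exact h) := by
  rw [Category.assoc, hcs, comp_cmp]
  exact cmp_congr G (pullback.lift_fst_assoc _ _ _ _) (pullback.lift_snd_assoc _ _ _ _) _ _

/-- A mono stable under identities, inverses and composition is a subgroupoid. -/
def subGrpd {R' : Scheme.{u}} (j : R' ⟶ G.R) [Mono j] (e' : G.U ⟶ R') (he : e' ≫ j = G.e)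
    (i' : R' ⟶ R') (hi : i' ≫ j = j ≫ G.i) (cs : pullback (j ≫ G.s) (j ≫ G.t) ⟶ R')
    (hcs : cs ≫ j = cmp G (pullback.fst (j ≫ G.s) (j ≫ G.t) ≫ j) (pullback.snd (j ≫ G.s) (j ≫ G.t) ≫ j)
      (by rw [Category.assoc, Category.assoc]; exact pullback.condition)) :
    Grpd.GroupoidScheme S where
  U := G.U
  R := R'
  pU := G.pU
  pR := j ≫ G.pR
  s := j ≫ G.s
  t := j ≫ G.t
  e := e'
  i := i'
  c := cs
  s_over := by rw [Category.assoc, G.s_over]
  t_over := by rw [Category.assoc, G.t_over]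
  comp_s α β h := by
    rw [← Category.assoc (pullback.lift α β h ≫ cs), cmp_sub G j cs hcs, cmp_s, Category.assoc]
  comp_t α β h := by
    rw [← Category.assoc (pullback.lift α β h ≫ cs), cmp_sub G j cs hcs, cmp_t, Category.assoc]
  assoc α β γ h₁ h₂ := by
    rw [← cancel_mono j]
    refine (cmp_sub G j cs hcs _ γ _).trans ?_
    refine Eq.trans ?_ (cmp_sub G j cs hcs α _ _).symm
    have h₁' : (α ≫ j) ≫ G.s = (β ≫ j) ≫ G.t := by rw [Category.assoc, Category.assoc]; exact h₁
    have h₂' : (β ≫ j) ≫ G.s = (γ ≫ j) ≫ G.t := by rw [Category.assoc, Category.assoc]; exact h₂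
    refine (cmp_congr G (cmp_sub G j cs hcs α β h₁) rfl _ ((cmp_s G _ _ h₁').trans h₂')).trans ?_
    refine Eq.trans ?_ (cmp_congr G rfl (cmp_sub G j cs hcs β γ h₂).symm (h₁'.trans (cmp_t G _ _ h₂').symm) _)
    exact G.assoc _ _ _ h₁' h₂'
  e_s := by rw [← Category.assoc, he, G.e_s]
  e_t := by rw [← Category.assoc, he, G.e_t]
  comp_e α := by
    rw [← cancel_mono j, cmp_sub G j cs hcs]
    refine (cmp_congr G rfl ?_ _ ?_).trans (G.comp_e (α ≫ j))
    · simp only [Category.assoc, he]
    · simp only [Category.assoc, G.e_t, Category.comp_id]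
  e_comp α := by
    rw [← cancel_mono j, cmp_sub G j cs hcs]
    refine (cmp_congr G ?_ rfl _ ?_).trans (G.e_comp (α ≫ j))
    · simp only [Category.assoc, he]
    · simp only [Category.assoc, G.e_s, Category.comp_id]
  i_s := by rw [reassoc_of% hi, G.i_s]
  i_t := by rw [reassoc_of% hi, G.i_t]
  comp_i α := by
    rw [← cancel_mono j, cmp_sub G j cs hcs]
    refine (cmp_congr G rfl (show (α ≫ i') ≫ j = (α ≫ j) ≫ G.i by simp only [Category.assoc, hi]) _ ?_).trans
      ((G.comp_i (α ≫ j)).trans ?_)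
    · rw [i_comp_t]
    · simp only [Category.assoc, he]
  i_comp α := by
    rw [← cancel_mono j, cmp_sub G j cs hcs]
    refine (cmp_congr G (show (α ≫ i') ≫ j = (α ≫ j) ≫ G.i by simp only [Category.assoc, hi]) rfl _ ?_).trans
      ((G.i_comp (α ≫ j)).trans ?_)
    · rw [i_comp_s]
    · simp only [Category.assoc, he]

/-- The inclusion of a subgroupoid. -/
def subHom {R' : Scheme.{u}} (j : R' ⟶ G.R) [Mono j] (e' : G.U ⟶ R') (he : e' ≫ j = G.e)
    (i' : R' ⟶ R') (hi : i' ≫ j = j ≫ G.i) (cs : pullback (j ≫ G.s) (j ≫ G.t) ⟶ R')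
    (hcs : cs ≫ j = cmp G (pullback.fst (j ≫ G.s) (j ≫ G.t) ≫ j) (pullback.snd (j ≫ G.s) (j ≫ G.t) ≫ j)
      (by rw [Category.assoc, Category.assoc]; exact pullback.condition)) :
    Grpd.GroupoidScheme.Hom (subGrpd G j e' he i' hi cs hcs) G where
  fU := 𝟙 G.U
  fR := j
  fU_over := Category.id_comp _
  comm_s := (Category.comp_id _).symm
  comm_t := (Category.comp_id _).symm
  comm_c := fun α β h => cmp_sub G j cs hcs α β h

variable {G} {G₁ : Grpd.GroupoidScheme S} (f : Grpd.GroupoidScheme.Hom G₁ G) [IsIso f.fU]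
  {k : Type u} [Field k] (eU : G.U ≅ Spec (CommRingCat.of k))

include eU in
theorem flat_toU {X : Scheme.{u}} (m : X ⟶ G.U) : Flat m := by
  haveI : Flat (m ≫ eU.hom) := inferInstance
  have : m = (m ≫ eU.hom) ≫ eU.inv := by rw [Category.assoc, eU.hom_inv_id, Category.comp_id]
  rw [this]
  infer_instance

include eU in
/-- The scheme-theoretic image of a homomorphism is a subgroupoid. -/
theorem exists_image [QuasiCompact f.fR] :
    ∃ (G' : Grpd.GroupoidScheme S) (ψ : Grpd.GroupoidScheme.Hom G' G), IsIso ψ.fU ∧ IsClosedImmersion ψ.fR ∧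
      ψ.fR.ker = f.fR.ker := by
  let fR := f.fR
  let R' := fR.image
  let j : R' ⟶ G.R := fR.imageι
  let d : G₁.R ⟶ R' := fR.toImage
  have hd : d ≫ j = fR := fR.toImage_imageι
  have hjk : j.ker = fR.ker := Scheme.IdealSheafData.ker_subschemeι _
  haveI : QuasiCompact (d ≫ j) := by rw [hd]; infer_instance
  haveI : QuasiCompact d := QuasiCompact.of_comp d j
  haveI hdd : IsSchemeTheoreticallyDominant d := (isSchemeTheoreticallyDominant_iff d).2 (ModPairLib.ker_toImage fR)
  have hle : ∀ {T T₁ : Scheme.{u}} (q : T₁ ⟶ T) (x : T ⟶ G.R) (y : T₁ ⟶ G₁.R)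
      [IsSchemeTheoreticallyDominant q] [QuasiCompact q],
      q ≫ x = y ≫ fR → j.ker ≤ x.ker := by
    intro T T₁ q x y _ _ h
    calc j.ker = fR.ker := hjk
      _ ≤ (y ≫ fR).ker := Scheme.Hom.le_ker_comp _ _
      _ = (q ≫ x).ker := by rw [h]
      _ = q.ker.map x := (Scheme.IdealSheafData.map_ker _ _).symm
      _ = x.ker := by rw [(isSchemeTheoreticallyDominant_iff q).1 ‹_›, Scheme.IdealSheafData.map_bot]
  let e' : G.U ⟶ R' := inv f.fU ≫ G₁.e ≫ d
  have he : e' ≫ j = G.e := by
    simp only [e', Category.assoc, hd, fR]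
    rw [hom_e f, IsIso.inv_hom_id_assoc]
  have hi0 : d ≫ j ≫ G.i = G₁.i ≫ fR := by rw [reassoc_of% hd]; exact (hom_i f).symm
  let i' := IsClosedImmersion.lift j (j ≫ G.i) (hle d (j ≫ G.i) G₁.i hi0)
  have hi : i' ≫ j = j ≫ G.i := IsClosedImmersion.lift_fac _ _ _
  let P := pullback (j ≫ G.s) (j ≫ G.t)
  let cP : P ⟶ G.R := cmp G (pullback.fst (j ≫ G.s) (j ≫ G.t) ≫ j) (pullback.snd (j ≫ G.s) (j ≫ G.t) ≫ j)
      (by rw [Category.assoc, Category.assoc]; exact pullback.condition)
  -- the product of the sources maps dominantly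
  let P₂ := pullback (fR ≫ G.s) (j ≫ G.t)
  let Q := pullback (fR ≫ G.s) (fR ≫ G.t)
  let q₁ : Q ⟶ P₂ := pullback.map _ _ _ _ (𝟙 _) d (𝟙 _) (by simp) (by rw [Category.comp_id, reassoc_of% hd])
  let q₂ : P₂ ⟶ P := pullback.map _ _ _ _ d (𝟙 _) (𝟙 _) (by rw [Category.comp_id, reassoc_of% hd]) (by simp)
  have h₁ : IsPullback q₁ (pullback.snd (fR ≫ G.s) (fR ≫ G.t)) (pullback.snd (fR ≫ G.s) (j ≫ G.t)) d := by
    refine IsPullback.of_right ?_ (pullback.lift_snd _ _ _) (IsPullback.of_hasPullback _ _)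
    rw [show q₁ ≫ pullback.fst (fR ≫ G.s) (j ≫ G.t) = pullback.fst (fR ≫ G.s) (fR ≫ G.t) from
      (pullback.lift_fst _ _ _).trans (Category.comp_id _), reassoc_of% hd]
    exact IsPullback.of_hasPullback _ _
  have h₂ : IsPullback q₂ (pullback.fst (fR ≫ G.s) (j ≫ G.t)) (pullback.fst (j ≫ G.s) (j ≫ G.t)) d := by
    refine IsPullback.of_right ?_ (pullback.lift_fst _ _ _) (IsPullback.of_hasPullback _ _).flip
    rw [show q₂ ≫ pullback.snd (j ≫ G.s) (j ≫ G.t) = pullback.snd (fR ≫ G.s) (j ≫ G.t) from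
      (pullback.lift_snd _ _ _).trans (Category.comp_id _), reassoc_of% hd]
    exact (IsPullback.of_hasPullback _ _).flip
  haveI : Flat (pullback.snd (fR ≫ G.s) (j ≫ G.t)) :=
    MorphismProperty.pullback_snd (P := @Flat) _ _ (flat_toU eU _)
  haveI : Flat (pullback.fst (j ≫ G.s) (j ≫ G.t)) :=
    MorphismProperty.pullback_fst (P := @Flat) _ _ (flat_toU eU _)
  haveI : IsSchemeTheoreticallyDominant q₁ := .of_isPullback h₁.flip
  haveI : IsSchemeTheoreticallyDominant q₂ := .of_isPullback h₂.flip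
  haveI : QuasiCompact q₁ := MorphismProperty.of_isPullback (P := @QuasiCompact) h₁.flip inferInstance
  haveI : QuasiCompact q₂ := MorphismProperty.of_isPullback (P := @QuasiCompact) h₂.flip inferInstance
  have hQ : pullback.fst (fR ≫ G.s) (fR ≫ G.t) ≫ G₁.s = pullback.snd (fR ≫ G.s) (fR ≫ G.t) ≫ G₁.t := by
    rw [← cancel_mono f.fU, Category.assoc, Category.assoc, ← f.comm_s, ← f.comm_t]
    exact pullback.condition
  have hc0 : (q₁ ≫ q₂) ≫ cP = (pullback.lift _ _ hQ ≫ G₁.c) ≫ fR := by
    rw [show (pullback.lift _ _ hQ ≫ G₁.c) ≫ fR = cmp G (pullback.fst (fR ≫ G.s) (fR ≫ G.t) ≫ fR)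
      (pullback.snd (fR ≫ G.s) (fR ≫ G.t) ≫ fR) (by rw [Category.assoc, Category.assoc]; exact pullback.condition)
      from f.comm_c _ _ hQ]
    simp only [cP, comp_cmp]
    refine cmp_congr G ?_ ?_ _ _
    · rw [Category.assoc q₁, show q₂ ≫ pullback.fst (j ≫ G.s) (j ≫ G.t) ≫ j =
        (pullback.fst (fR ≫ G.s) (j ≫ G.t) ≫ d) ≫ j by rw [← h₂.w, Category.assoc],
        ← Category.assoc q₁, ← Category.assoc q₁ _ d, show q₁ ≫ pullback.fst (fR ≫ G.s) (j ≫ G.t) =
          pullback.fst (fR ≫ G.s) (fR ≫ G.t) from (pullback.lift_fst _ _ _).trans (Category.comp_id _),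
        Category.assoc, hd]
    · rw [Category.assoc q₁, show q₂ ≫ pullback.snd (j ≫ G.s) (j ≫ G.t) ≫ j =
        pullback.snd (fR ≫ G.s) (j ≫ G.t) ≫ j by
          rw [← Category.assoc, show q₂ ≫ pullback.snd (j ≫ G.s) (j ≫ G.t) = _ from pullback.lift_snd _ _ _,
            Category.comp_id],
        ← Category.assoc, h₁.w, Category.assoc, hd]
  let cs := IsClosedImmersion.lift j cP (hle (q₁ ≫ q₂) cP (pullback.lift _ _ hQ ≫ G₁.c) hc0)
  refine ⟨subGrpd G j e' he i' hi cs (IsClosedImmersion.lift_fac _ _ _),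
    subHom G j e' he i' hi cs (IsClosedImmersion.lift_fac _ _ _), inferInstanceAs (IsIso (𝟙 G.U)),
    inferInstanceAs (IsClosedImmersion j), hjk⟩

include eU in
/-- Over a perfect field the reduced closure of the image is a subgroupoid. -/
theorem exists_closure [PerfectField k] :
    ∃ (G' : Grpd.GroupoidScheme S) (ψ : Grpd.GroupoidScheme.Hom G' G), IsIso ψ.fU ∧ IsClosedImmersion ψ.fR ∧
      IsReduced G'.R ∧ Set.range ⇑ψ.fR = closure (Set.range ⇑f.fR) := by
  let I := Scheme.IdealSheafData.vanishingIdeal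
    (⟨closure (Set.range ⇑f.fR), isClosed_closure⟩ : TopologicalSpace.Closeds G.R)
  let j := I.subschemeι
  have hr : Set.range ⇑j = closure (Set.range ⇑f.fR) := by
    rw [Scheme.IdealSheafData.range_subschemeι]
    exact Scheme.IdealSheafData.coe_support_vanishingIdeal _
  have hfac : ∀ {T : Scheme.{u}} [IsReduced T] (x : T ⟶ G.R), Set.range ⇑x ⊆ closure (Set.range ⇑f.fR) →
      ∃ x' : T ⟶ I.subscheme, x' ≫ j = x := by
    intro T _ x hx
    refine ⟨IsClosedImmersion.lift j x ?_, IsClosedImmersion.lift_fac _ _ _⟩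
    rw [Scheme.IdealSheafData.ker_subschemeι, Props12.ker_eq_vanishingIdeal x]
    exact Scheme.IdealSheafData.vanishingIdeal_antimono (closure_minimal hx isClosed_closure)
  haveI : IsReduced I.subscheme := Props12.isReduced_subscheme_vanishingIdeal _
  haveI : IsReduced G.U := isReduced_of_isOpenImmersion eU.hom
  obtain ⟨e', he⟩ := hfac G.e (by
    rintro _ ⟨y, rfl⟩
    refine subset_closure ⟨G₁.e (inv f.fU y), ?_⟩
    rw [← Scheme.Hom.comp_apply, ← Scheme.Hom.comp_apply, hom_e f, IsIso.inv_hom_id_assoc])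
  obtain ⟨i', hi⟩ := hfac (j ≫ G.i) (by
    rintro _ ⟨y, rfl⟩
    exact inv_mem_closure f (hr ▸ ⟨y, rfl⟩))
  haveI : IsReduced (pullback (j ≫ G.s) (j ≫ G.t)) := by
    haveI : IsReduced (pullback ((j ≫ G.s) ≫ eU.hom) ((j ≫ G.t) ≫ eU.hom)) := isReduced_pullback_perfect _ _
    exact isReduced_of_isOpenImmersion (pullback.mapDesc (j ≫ G.s) (j ≫ G.t) eU.hom)
  obtain ⟨cs, hcs⟩ := hfac (cmp G (pullback.fst (j ≫ G.s) (j ≫ G.t) ≫ j) (pullback.snd (j ≫ G.s) (j ≫ G.t) ≫ j)
    (by rw [Category.assoc, Category.assoc]; exact pullback.condition)) (by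
    rintro _ ⟨p, rfl⟩
    let J : pullback (j ≫ G.s) (j ≫ G.t) ⟶ pullback G.s G.t := pullback.map _ _ _ _ j j (𝟙 _) (by simp) (by simp)
    have e : cmp G (pullback.fst (j ≫ G.s) (j ≫ G.t) ≫ j) (pullback.snd (j ≫ G.s) (j ≫ G.t) ≫ j)
        (by rw [Category.assoc, Category.assoc]; exact pullback.condition) = J ≫ G.c := rfl
    rw [e]
    refine c_mem_closure eU f (J p) ?_ ?_
    · rw [← Scheme.Hom.comp_apply, pullback.lift_fst]
      exact hr ▸ ⟨_, rfl⟩
    · rw [← Scheme.Hom.comp_apply, pullback.lift_snd]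
      exact hr ▸ ⟨_, rfl⟩)
  exact ⟨subGrpd G j e' he i' hi cs hcs, subHom G j e' he i' hi cs hcs, inferInstanceAs (IsIso (𝟙 G.U)),
    inferInstanceAs (IsClosedImmersion j), inferInstanceAs (IsReduced I.subscheme), hr⟩

variable (G)

include eU in
/-- The scheme-theoretic image of `j` in elementary terms. -/
theorem exists_image_j [QuasiCompact G.j] :
    ∃ (G' : Grpd.GroupoidScheme S) (u : G'.U ⟶ G.U) (r : G'.R ⟶ pullback G.pU G.pU), IsIso u ∧
      u ≫ G.pU = G'.pU ∧ IsClosedImmersion r ∧ r ≫ pullback.fst G.pU G.pU = G'.t ≫ u ∧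
      r ≫ pullback.snd G.pU G.pU = G'.s ≫ u ∧ r.ker = G.j.ker := by
  haveI : IsIso (toPair G).fU := inferInstanceAs (IsIso (𝟙 G.U))
  haveI : QuasiCompact (toPair G).fR := inferInstanceAs (QuasiCompact G.j)
  obtain ⟨G', ψ, h1, h2, h3⟩ := exists_image (G := pairGrpd G) (toPair G) eU
  exact ⟨G', ψ.fU, ψ.fR, h1, ψ.fU_over, h2, ψ.comm_t, ψ.comm_s, h3⟩

include eU in
/-- The reduced closure of the image of `j` in elementary terms. -/
theorem exists_closure_j [PerfectField k] :
    ∃ (G' : Grpd.GroupoidScheme S) (u : G'.U ⟶ G.U) (r : G'.R ⟶ pullback G.pU G.pU), IsIso u ∧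
      u ≫ G.pU = G'.pU ∧ IsClosedImmersion r ∧ r ≫ pullback.fst G.pU G.pU = G'.t ≫ u ∧
      r ≫ pullback.snd G.pU G.pU = G'.s ≫ u ∧ IsReduced G'.R ∧ Set.range ⇑r = closure (Set.range ⇑G.j) := by
  haveI : IsIso (toPair G).fU := inferInstanceAs (IsIso (𝟙 G.U))
  obtain ⟨G', ψ, h1, h2, h3, h4⟩ := exists_closure (G := pairGrpd G) (toPair G) eU
  exact ⟨G', ψ.fU, ψ.fR, h1, ψ.fU_over, h2, ψ.comm_t, ψ.comm_s, h3, h4⟩

end Groth.Agent.GrpdField
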