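import Groth.Agent.GrpdField.Equidim
import Groth.Agent.SGA3cLib.Components

/-!
# Groupoids on the spectrum of a field: one irreducible component through each point
-/

set_option autoImplicit false
set_option backward.isDefEq.respectTransparency.types false
set_option linter.style.haveILetI false

universe u

open CategoryTheory Limits AlgebraicGeometry

namespace Groth.Agent.GrpdField

open Groth.Agent.VarietyLib (mem_genericPoints_iff)

section general

variable {k : Type u} [Field k] {X : Scheme.{u}} (f : X ⟶ Spec (CommRingCat.of k))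

/-- A point has a single maximal generization. -/
def UniqueMax {Y : Scheme.{u}} (y : Y) : Prop :=
  ∀ z₁ z₂ : Y, (∀ w, w ⤳ z₁ → z₁ = w) → (∀ w, w ⤳ z₂ → z₂ = w) → z₁ ⤳ y → z₂ ⤳ y → z₁ = z₂

/-- The map between two field base changes. -/
noncomputable def bcMap {K M : Type u} [Field K] [Field M] (g : Spec (CommRingCat.of K) ⟶ Spec (CommRingCat.of k))
    (i : Spec (CommRingCat.of M) ⟶ Spec (CommRingCat.of K)) : pullback f (i ≫ g) ⟶ pullback f g :=
  pullback.lift (pullback.fst f (i ≫ g)) (pullback.snd f (i ≫ g) ≫ i) (by rw [pullback.condition, Category.assoc])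

theorem flat_bcMap {K M : Type u} [Field K] [Field M] (g : Spec (CommRingCat.of K) ⟶ Spec (CommRingCat.of k))
    (i : Spec (CommRingCat.of M) ⟶ Spec (CommRingCat.of K)) :
    IsPullback (bcMap f g i) (pullback.snd f (i ≫ g)) (pullback.snd f g) i ∧ Flat (bcMap f g i) := by
  have h : IsPullback (bcMap f g i) (pullback.snd f (i ≫ g)) (pullback.snd f g) i := by
    refine IsPullback.of_right ?_ (pullback.lift_snd _ _ _) (IsPullback.of_hasPullback f g)
    rw [show bcMap f g i ≫ pullback.fst f g = pullback.fst f (i ≫ g) from pullback.lift_fst _ _ _]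
    exact IsPullback.of_hasPullback f (i ≫ g)
  exact ⟨h, MorphismProperty.of_isPullback (P := @Flat) h.flip (inferInstance : Flat i)⟩

theorem eq_of_bcMap_eq {K M : Type u} [Field K] [IsAlgClosed K] [Field M]
    (g : Spec (CommRingCat.of K) ⟶ Spec (CommRingCat.of k))
    (i : Spec (CommRingCat.of M) ⟶ Spec (CommRingCat.of K)) {w₁ w₂ : ↥(pullback f (i ≫ g))}
    (h₁ : ∀ w, w ⤳ w₁ → w₁ = w) (h₂ : ∀ w, w ⤳ w₂ → w₂ = w)
    (h : bcMap f g i w₁ = bcMap f g i w₂) : w₁ = w₂ := by
  have hp := (flat_bcMap f g i).1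
  let e := hp.isoPullback.hom.homeomorph
  apply e.injective
  have hm : ∀ {w}, (∀ v, v ⤳ w → w = v) → e w ∈ genericPoints _ := fun {w} hw =>
    SGA3cLib.homeomorph_mem_genericPoints e (mem_genericPoints_iff.2 fun v hv => (hw v hv).symm)
  have hfst : ∀ w, (pullback.fst (pullback.snd f g) i) (e w) = bcMap f g i w := fun w => by
    show (hp.isoPullback.hom ≫ pullback.fst _ _) w = _
    rw [hp.isoPullback_hom_fst]
  exact SGA3cLib.eq_of_fst_eq_of_mem_genericPoints K _ M i (hm h₁) (hm h₂) (by
    simp only [Scheme.Hom.comp_apply] at hfst ⊢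
    exact (hfst w₁).trans (h.trans (hfst w₂).symm))

/-- Uniqueness of the maximal generization ascends from an algebraically closed field. -/
theorem uniqueMax_of_bcMap {K M : Type u} [Field K] [IsAlgClosed K] [Field M]
    (g : Spec (CommRingCat.of K) ⟶ Spec (CommRingCat.of k))
    (i : Spec (CommRingCat.of M) ⟶ Spec (CommRingCat.of K)) (y : ↥(pullback f (i ≫ g)))
    (h : UniqueMax (bcMap f g i y)) : UniqueMax y := by
  intro z₁ z₂ h₁ h₂ s₁ s₂
  haveI := (flat_bcMap f g i).2
  exact eq_of_bcMap_eq f g i h₁ h₂ (h _ _ (DimLib.isMax_apply_of_flat _ h₁) (DimLib.isMax_apply_of_flat _ h₂)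
    (s₁.map (bcMap f g i).continuous) (s₂.map (bcMap f g i).continuous))

/-- Uniqueness of the maximal generization descends along flat maps. -/
theorem uniqueMax_apply_of_flat {Y Z : Scheme.{u}} (q : Y ⟶ Z) [Flat q] (y : Y) (h : UniqueMax y) :
    UniqueMax (q y) := by
  intro z₁ z₂ h₁ h₂ s₁ s₂
  have lift : ∀ z, (∀ w, w ⤳ z → z = w) → z ⤳ q y → ∃ w, (∀ v, v ⤳ w → w = v) ∧ w ⤳ y ∧ q w = z := by
    intro z hz hs
    obtain ⟨y', hy', hqy'⟩ := Flat.generalizingMap q hs
    obtain ⟨w, hw, hmax⟩ := DimLib.exists_maximal_specializes y'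
    exact ⟨w, hmax, hw.trans hy', (hz _ (hqy' ▸ hw.map q.continuous)).symm⟩
  obtain ⟨w₁, hm₁, hs₁, rfl⟩ := lift z₁ h₁ s₁
  obtain ⟨w₂, hm₂, hs₂, rfl⟩ := lift z₂ h₂ s₂
  rw [h w₁ w₂ hm₁ hm₂ hs₁ hs₂]

end general

variable {S : Scheme.{u}} (G : Grpd.GroupoidScheme S) {k : Type u} [Field k] (eU : G.U ≅ Spec (CommRingCat.of k))

theorem bcMap_fst {X : Scheme.{u}} (f : X ⟶ Spec (CommRingCat.of k)) {K M : Type u} [Field K] [Field M]
    (g : Spec (CommRingCat.of K) ⟶ Spec (CommRingCat.of k)) (i : Spec (CommRingCat.of M) ⟶ Spec (CommRingCat.of K)) :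
    bcMap f g i ≫ pullback.fst f g = pullback.fst f (i ≫ g) := pullback.lift_fst _ _ _

theorem bcMap_snd {X : Scheme.{u}} (f : X ⟶ Spec (CommRingCat.of k)) {K M : Type u} [Field K] [Field M]
    (g : Spec (CommRingCat.of K) ⟶ Spec (CommRingCat.of k)) (i : Spec (CommRingCat.of M) ⟶ Spec (CommRingCat.of K)) :
    bcMap f g i ≫ pullback.snd f g = pullback.snd f (i ≫ g) ≫ i := pullback.lift_snd _ _ _

theorem idSection_fst {K : Type u} [Field K] (g : Spec (CommRingCat.of K) ⟶ Spec (CommRingCat.of k)) :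
    idSection G eU g ≫ pullback.fst (G.s ≫ eU.hom) g = g ≫ eU.inv ≫ G.e := pullback.lift_fst _ _ _

theorem idSection_snd {K : Type u} [Field K] (g : Spec (CommRingCat.of K) ⟶ Spec (CommRingCat.of k)) :
    idSection G eU g ≫ pullback.snd (G.s ≫ eU.hom) g = 𝟙 _ := pullback.lift_snd _ _ _

theorem bcMap_idSection {K M : Type u} [Field K] [Field M] (g : Spec (CommRingCat.of K) ⟶ Spec (CommRingCat.of k))
    (i : Spec (CommRingCat.of M) ⟶ Spec (CommRingCat.of K)) :
    idSection G eU (i ≫ g) ≫ bcMap (G.s ≫ eU.hom) g i = i ≫ idSection G eU g := by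
  apply pullback.hom_ext
  · simp only [Category.assoc, bcMap_fst, idSection_fst]
  · rw [Category.assoc, bcMap_snd, ← Category.assoc, idSection_snd, Category.id_comp, Category.assoc, idSection_snd,
      Category.comp_id]

/-- In every fibre of the source map the identity has a single maximal generization. -/
theorem uniqueMax_idSection {K : Type u} [Field K] (g : Spec (CommRingCat.of K) ⟶ Spec (CommRingCat.of k)) :
    UniqueMax (idSection G eU g (IsLocalRing.closedPoint K)) := by
  set p := G.s ≫ eU.hom with hp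
  -- a geometric point of the arrows over a maximal point of a geometric fibre
  let kb := AlgebraicClosure k
  let g₀ : Spec (CommRingCat.of kb) ⟶ Spec (CommRingCat.of k) := Spec.map (CommRingCat.ofHom (algebraMap k kb))
  obtain ⟨z, -, hz⟩ := DimLib.exists_maximal_specializes (idSection G eU g₀ (IsLocalRing.closedPoint kb))
  let L := AlgebraicClosure ((pullback p g₀).residueField z)
  obtain ⟨m, hm⟩ : ∃ m : Spec (CommRingCat.of L) ⟶ pullback p g₀, m (IsLocalRing.closedPoint L) = z :=
    ⟨Spec.map (CommRingCat.ofHom (algebraMap ((pullback p g₀).residueField z) L)) ≫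
      (pullback p g₀).fromSpecResidueField z, ((pullback p g₀).range_fromSpecResidueField z).le ⟨_, rfl⟩⟩
  let r := m ≫ pullback.fst p g₀
  let j := m ≫ pullback.snd p g₀
  have hj : r ≫ G.s ≫ eU.hom = j ≫ g₀ := by
    simp only [r, j, Category.assoc, ← hp, pullback.condition]
  have hb₀ : UniqueMax (idSection G eU (r ≫ G.t ≫ eU.hom) (IsLocalRing.closedPoint L)) := by
    obtain ⟨h, hh⟩ := exists_translate G eU r
    intro z₁ z₂ h₁ h₂ s₁ s₂
    apply h.injective
    let ra : Spec (CommRingCat.of L) ⟶ pullback p (j ≫ g₀) := pullback.lift r (𝟙 _) (by rw [Category.id_comp]; exact hj)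
    have hra : UniqueMax (ra (IsLocalRing.closedPoint L)) := by
      refine uniqueMax_of_bcMap p g₀ j _ ?_
      have e : ra ≫ bcMap p g₀ j = m := by
        apply pullback.hom_ext
        · rw [Category.assoc, bcMap_fst]
          exact pullback.lift_fst _ _ _
        · rw [Category.assoc, bcMap_snd, ← Category.assoc, show ra ≫ pullback.snd p (j ≫ g₀) = 𝟙 _ from
            pullback.lift_snd _ _ _, Category.id_comp]
      rw [← Scheme.Hom.comp_apply, e, hm]
      exact fun w₁ w₂ _ _ t₁ t₂ => (hz w₁ t₁).symm.trans (hz w₂ t₂)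
    have key : ∀ (a a' : Spec (CommRingCat.of L) ⟶ Spec (CommRingCat.of k)) (e : a = a')
        (x : Spec (CommRingCat.of L) ⟶ pullback p a) (x' : Spec (CommRingCat.of L) ⟶ pullback p a'),
        x ≫ pullback.fst p a = x' ≫ pullback.fst p a' → x ≫ pullback.snd p a = x' ≫ pullback.snd p a' →
        UniqueMax (x' (IsLocalRing.closedPoint L)) → UniqueMax (x (IsLocalRing.closedPoint L)) := by
      rintro a _ rfl x x' e1 e2 hx
      rwa [pullback.hom_ext e1 e2]
    have hu := key (r ≫ G.s ≫ eU.hom) (j ≫ g₀) hj (pullback.lift r (𝟙 _) (by simp only [Category.id_comp, p]))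
      ra ((pullback.lift_fst _ _ _).trans (pullback.lift_fst _ _ _).symm)
      ((pullback.lift_snd _ _ _).trans (pullback.lift_snd _ _ _).symm) hra
    have hmax : ∀ {w}, (∀ v, v ⤳ w → w = v) → ∀ v, v ⤳ h w → h w = v := fun {w} hw v hv => by
      have := hv.map h.symm.continuous
      rw [h.symm_apply_apply] at this
      rw [hw _ this, h.apply_symm_apply]
    exact hu _ _ (hmax h₁) (hmax h₂) (hh ▸ s₁.map h.continuous) (hh ▸ s₂.map h.continuous)
  -- a common extension
  let b := r ≫ G.t ≫ eU.hom
  haveI : Surjective g := ⟨fun x => ⟨IsLocalRing.closedPoint K, Subsingleton.elim _ _⟩⟩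
  obtain ⟨c, -⟩ := (pullback.fst b g).surjective (IsLocalRing.closedPoint L)
  let M := AlgebraicClosure ((pullback b g).residueField c)
  let q : Spec (CommRingCat.of M) ⟶ pullback b g :=
    Spec.map (CommRingCat.ofHom (algebraMap ((pullback b g).residueField c) M)) ≫ (pullback b g).fromSpecResidueField c
  let i := q ≫ pullback.fst b g
  let i' := q ≫ pullback.snd b g
  have hii : i ≫ b = i' ≫ g := by simp only [i, i', Category.assoc, pullback.condition]
  have h1 : UniqueMax (idSection G eU (i ≫ b) (IsLocalRing.closedPoint M)) := by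
    refine uniqueMax_of_bcMap p b i _ ?_
    rw [← Scheme.Hom.comp_apply, bcMap_idSection, Scheme.Hom.comp_apply,
      Subsingleton.elim (α := PrimeSpectrum L) (i _) (IsLocalRing.closedPoint L)]
    exact hb₀
  rw [hii] at h1
  haveI := (flat_bcMap p g i').2
  have h2 := uniqueMax_apply_of_flat (bcMap p g i') _ h1
  rw [← Scheme.Hom.comp_apply, bcMap_idSection, Scheme.Hom.comp_apply,
    Subsingleton.elim (α := PrimeSpectrum K) (i' _) (IsLocalRing.closedPoint K)] at h2
  exact h2

include eU in
/-- Every point of the arrows of a groupoid on a field has a single maximal generization. -/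
theorem uniqueMax_arrow (x : G.R) : UniqueMax x := by
  let K := AlgebraicClosure (G.R.residueField x)
  obtain ⟨r, hr⟩ : ∃ r : Spec (CommRingCat.of K) ⟶ G.R, r (IsLocalRing.closedPoint K) = x :=
    ⟨Spec.map (CommRingCat.ofHom (algebraMap (G.R.residueField x) K)) ≫ G.R.fromSpecResidueField x,
      (G.R.range_fromSpecResidueField x).le ⟨_, rfl⟩⟩
  let p := G.s ≫ eU.hom
  let a := r ≫ G.s ≫ eU.hom
  let ra : Spec (CommRingCat.of K) ⟶ pullback p a := pullback.lift r (𝟙 _) (by simp only [Category.id_comp, p, a])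
  obtain ⟨h, hh⟩ := exists_translate G eU r
  have hu : UniqueMax (ra (IsLocalRing.closedPoint K)) := by
    intro z₁ z₂ h₁ h₂ s₁ s₂
    apply h.symm.injective
    have hmax : ∀ {w}, (∀ v, v ⤳ w → w = v) → ∀ v, v ⤳ h.symm w → h.symm w = v := fun {w} hw v hv => by
      have := hv.map h.continuous
      rw [h.apply_symm_apply] at this
      rw [hw _ this, h.symm_apply_apply]
    refine uniqueMax_idSection G eU (r ≫ G.t ≫ eU.hom) _ _ (hmax h₁) (hmax h₂) ?_ ?_
    · have := s₁.map h.symm.continuous
      rwa [show ra (IsLocalRing.closedPoint K) = _ from hh.symm, h.symm_apply_apply] at this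
    · have := s₂.map h.symm.continuous
      rwa [show ra (IsLocalRing.closedPoint K) = _ from hh.symm, h.symm_apply_apply] at this
  haveI : Flat (pullback.fst p a) := MorphismProperty.pullback_fst (P := @Flat) _ _ inferInstance
  have := uniqueMax_apply_of_flat (pullback.fst p a) _ hu
  rwa [← Scheme.Hom.comp_apply, pullback.lift_fst, hr] at this

include eU in
theorem component_unique (x : G.R) {Z Z' : Set G.R} (hZ : Z ∈ irreducibleComponents (G.R : Type u))
    (hZ' : Z' ∈ irreducibleComponents (G.R : Type u)) (hx : x ∈ Z) (hx' : x ∈ Z') : Z = Z' := by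
  obtain ⟨θ, hθ, hm⟩ := DimLib.exists_genericPoint_of_mem_components hZ
  obtain ⟨θ', hθ', hm'⟩ := DimLib.exists_genericPoint_of_mem_components hZ'
  rw [← hθ.def, ← hθ'.def, uniqueMax_arrow G eU x θ θ' hm hm' (hθ.specializes hx) (hθ'.specializes hx')]

end Groth.Agent.GrpdField
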