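import Groth.Agent.GrpdLib.Orbits
import Mathlib.AlgebraicGeometry.Morphisms.UniversallyOpen

/-!
# Translates of opens and locally closed images, for groupoids on the spectrum of a field
-/

set_option autoImplicit false
set_option linter.style.haveILetI false

universe u

open CategoryTheory CategoryTheory.Limits AlgebraicGeometry TopologicalSpace

namespace Groth.Agent.GrpdField

open Groth.Agent.GrpdLib

variable {S : Scheme.{u}} (G : Grpd.GroupoidScheme S) {k : Type u} [Field k] (eU : G.U ≅ Spec (CommRingCat.of k))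

include eU in
theorem universallyOpen_toU {X : Scheme.{u}} (f : X ⟶ G.U) : UniversallyOpen f := by
  haveI : Nonempty G.U := ⟨eU.inv (IsLocalRing.closedPoint k)⟩
  haveI : IsIntegral G.U := isIntegral_of_isOpenImmersion eU.hom
  haveI : Subsingleton G.U := eU.hom.homeomorph.subsingleton
  infer_instance

/-- The composite of pairs `(a z, w)` with `w` in an open. -/
noncomputable def transl (W : G.R.Opens) {Z : Scheme.{u}} (a : Z ⟶ G.R) :
    pullback (a ≫ G.s) (W.ι ≫ G.t) ⟶ G.R :=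
  cmp G (pullback.fst (a ≫ G.s) (W.ι ≫ G.t) ≫ a) (pullback.snd (a ≫ G.s) (W.ι ≫ G.t) ≫ W.ι)
    ((Category.assoc _ _ _).trans (pullback.condition.trans (Category.assoc _ _ _).symm))

include eU in
theorem isOpen_range_transl (W : G.R.Opens) {Z : Scheme.{u}} (a : Z ⟶ G.R) :
    IsOpen (Set.range ⇑(transl G W a)) := by
  let Q := pullback (a ≫ G.t) G.t
  haveI : UniversallyOpen (a ≫ G.t) := universallyOpen_toU G eU _
  have hsq : ((pullback.fst (a ≫ G.t) G.t ≫ a) ≫ G.i) ≫ G.s = pullback.snd (a ≫ G.t) G.t ≫ G.t := by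
    rw [i_comp_s, Category.assoc, pullback.condition]
  let θ : Q ⟶ G.R := cmp G ((pullback.fst (a ≫ G.t) G.t ≫ a) ≫ G.i) (pullback.snd (a ≫ G.t) G.t) hsq
  let m := transl G W a
  let p₁ := pullback.fst (a ≫ G.s) (W.ι ≫ G.t)
  let p₂ := pullback.snd (a ≫ G.s) (W.ι ≫ G.t)
  have hm : m ≫ G.t = p₁ ≫ a ≫ G.t := (cmp_t G _ _ _).trans (Category.assoc _ _ _)
  let ψ : pullback (a ≫ G.s) (W.ι ≫ G.t) ⟶ Q := pullback.lift p₁ m hm.symm
  have hψθ : ψ ≫ θ = p₂ ≫ W.ι := by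
    simp only [θ, comp_cmp]
    refine (cmp_congr G (show ψ ≫ (pullback.fst (a ≫ G.t) G.t ≫ a) ≫ G.i = (p₁ ≫ a) ≫ G.i by
      simp only [ψ, ← Category.assoc, pullback.lift_fst]) (pullback.lift_snd _ _ _) _ ?_).trans
      (cmp_inv_cmp G (p₁ ≫ a) (p₂ ≫ W.ι) ?_ ?_)
    · rw [i_comp_s, hm, Category.assoc]
    · rw [Category.assoc, Category.assoc]; exact pullback.condition
    · rw [i_comp_s, cmp_t]
  let O : Q.Opens := θ ⁻¹ᵁ W
  have hr : Set.range ⇑(O.ι ≫ θ) ⊆ Set.range ⇑W.ι := by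
    rw [Scheme.Opens.range_ι]
    rintro _ ⟨z, rfl⟩
    exact z.2
  let l := IsOpenImmersion.lift W.ι (O.ι ≫ θ) hr
  have hl : l ≫ W.ι = O.ι ≫ θ := IsOpenImmersion.lift_fac _ _ _
  have hcond : (O.ι ≫ pullback.fst (a ≫ G.t) G.t) ≫ a ≫ G.s = l ≫ W.ι ≫ G.t := by
    rw [← Category.assoc l, hl, Category.assoc O.ι θ, show θ ≫ G.t = _ from cmp_t G _ _ _, i_comp_t]
    simp only [Category.assoc]
  let φ : (O : Scheme.{u}) ⟶ pullback (a ≫ G.s) (W.ι ≫ G.t) := pullback.lift _ l hcond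
  have hφ : φ ≫ m = O.ι ≫ pullback.snd (a ≫ G.t) G.t := by
    simp only [m, transl, comp_cmp]
    let α := (O.ι ≫ pullback.fst (a ≫ G.t) G.t) ≫ a
    let β := O.ι ≫ pullback.snd (a ≫ G.t) G.t
    have h1 : (α ≫ G.i) ≫ G.s = β ≫ G.t := by
      rw [i_comp_s]; simp only [α, β, Category.assoc, pullback.condition]
    refine (cmp_congr G (show φ ≫ p₁ ≫ a = α by simp only [φ, p₁, α, ← Category.assoc, pullback.lift_fst])
      (show φ ≫ p₂ ≫ W.ι = cmp G (α ≫ G.i) β h1 by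
        rw [← Category.assoc, show φ ≫ p₂ = l from pullback.lift_snd _ _ _, hl]
        simp only [θ, comp_cmp]
        exact cmp_congr G (by simp only [α, Category.assoc]) rfl _ _) _ ?_).trans (cmp_cmp_inv G α β h1 ?_)
    · rw [cmp_t, i_comp_t]
    · rw [cmp_t, i_comp_t]
  have key : Set.range ⇑m = ⇑(pullback.snd (a ≫ G.t) G.t) '' (O : Set Q) := by
    refine Set.Subset.antisymm ?_ ?_
    · rintro _ ⟨p, rfl⟩
      refine ⟨ψ p, ?_, ?_⟩
      · show θ (ψ p) ∈ W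
        rw [← Scheme.Hom.comp_apply, hψθ, Scheme.Hom.comp_apply]
        exact (p₂ p).2
      · rw [← Scheme.Hom.comp_apply, show ψ ≫ pullback.snd (a ≫ G.t) G.t = m from pullback.lift_snd _ _ _]
    · rintro _ ⟨q, hq, rfl⟩
      exact ⟨φ ⟨q, hq⟩, (Scheme.Hom.comp_apply φ m _).symm.trans
        ((congrArg (fun g : (O : Scheme.{u}) ⟶ G.R => g ⟨q, hq⟩) hφ).trans rfl)⟩
  show IsOpen (Set.range ⇑m)
  rw [key]
  exact (Scheme.Hom.isOpenMap _) _ O.2

variable {G₁ : Grpd.GroupoidScheme S} {G} (f : Grpd.GroupoidScheme.Hom G₁ G)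

theorem hom_e : G₁.e ≫ f.fR = f.fU ≫ G.e := by
  let x := G₁.e ≫ f.fR
  have hs : x ≫ G.s = f.fU := by
    rw [Category.assoc, f.comm_s, ← Category.assoc, G₁.e_s, Category.id_comp]
  have ht : x ≫ G.t = f.fU := by
    rw [Category.assoc, f.comm_t, ← Category.assoc, G₁.e_t, Category.id_comp]
  have h : x ≫ G.s = x ≫ G.t := hs.trans ht.symm
  have h₁ : G₁.e ≫ G₁.s = G₁.e ≫ G₁.t := G₁.e_s.trans G₁.e_t.symm
  have hxx : cmp G x x h = x := by
    refine (f.comm_c G₁.e G₁.e h₁).symm.trans ?_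
    congr 1
    refine (cmp_congr G₁ rfl (show G₁.e = G₁.e ≫ G₁.s ≫ G₁.e by rw [reassoc_of% G₁.e_s]) h₁ ?_).trans
      (G₁.comp_e G₁.e)
    rw [reassoc_of% G₁.e_s, G₁.e_s, G₁.e_t]
  have h' : (x ≫ G.i) ≫ G.s = cmp G x x h ≫ G.t := by rw [i_comp_s, cmp_t]
  have h2 := cmp_inv_cmp G x x h h'
  have h3 : cmp G (x ≫ G.i) x (i_comp_s G x) = x := (cmp_congr G rfl hxx.symm _ h').trans h2
  refine h3.symm.trans ((G.i_comp x).trans ?_)
  rw [← Category.assoc, hs]

theorem hom_i : G₁.i ≫ f.fR = f.fR ≫ G.i := by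
  let α := f.fR
  let β := G₁.i ≫ f.fR
  have h₁ : 𝟙 G₁.R ≫ G₁.s = (𝟙 G₁.R ≫ G₁.i) ≫ G₁.t := by simp [G₁.i_t]
  have h : α ≫ G.s = β ≫ G.t := by
    show f.fR ≫ G.s = (G₁.i ≫ f.fR) ≫ G.t
    rw [Category.assoc, f.comm_t, f.comm_s, ← Category.assoc, G₁.i_t]
  have hc : cmp G α β h = α ≫ G.t ≫ G.e := by
    refine (cmp_congr G (Category.id_comp f.fR).symm
      (show β = (𝟙 G₁.R ≫ G₁.i) ≫ f.fR by rw [Category.id_comp]) h ?_).trans ((f.comm_c _ _ h₁).symm.trans ?_)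
    · simp only [Category.id_comp]; exact h
    · rw [G₁.comp_i, Category.id_comp, Category.assoc, hom_e, ← Category.assoc, ← f.comm_t, Category.assoc]
  have h' : (α ≫ G.i) ≫ G.s = cmp G α β h ≫ G.t := by rw [i_comp_s, cmp_t]
  refine (cmp_inv_cmp G α β h h').symm.trans ?_
  refine (cmp_congr G rfl (show cmp G α β h = (α ≫ G.i) ≫ G.s ≫ G.e by
    rw [hc, ← Category.assoc, ← Category.assoc, i_comp_s]) h' ?_).trans (G.comp_e (α ≫ G.i))
  simp only [Category.assoc, G.e_t, Category.comp_id]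

variable [IsIso f.fU]

include eU in
/-- The closure of the image is stable under right composition with the image. -/
theorem cmp_mem_closure {T : Scheme.{u}} (γ β : T ⟶ G.R) (h : γ ≫ G.s = β ≫ G.t) (q : T)
    (hγ : γ q ∈ closure (Set.range ⇑f.fR)) (hβ : β q ∈ Set.range ⇑f.fR) :
    cmp G γ β h q ∈ closure (Set.range ⇑f.fR) := by
  let P := pullback G.s (f.fR ≫ G.t)
  let p₁ := pullback.fst G.s (f.fR ≫ G.t)
  let p₂ := pullback.snd G.s (f.fR ≫ G.t)
  let m : P ⟶ G.R := cmp G p₁ (p₂ ≫ f.fR) (by rw [Category.assoc]; exact pullback.condition)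
  have hsub : ⇑p₁ ⁻¹' Set.range ⇑f.fR ⊆ ⇑m ⁻¹' Set.range ⇑f.fR := by
    rintro p ⟨x, hx⟩
    obtain ⟨v, hv, -⟩ := Scheme.Pullback.exists_preimage_pullback (f := p₁) (g := f.fR) p x hx.symm
    let u₁ := pullback.fst p₁ f.fR
    let u₂ := pullback.snd p₁ f.fR
    have h₁ : u₂ ≫ G₁.s = (u₁ ≫ p₂) ≫ G₁.t := by
      rw [← cancel_mono f.fU, Category.assoc, Category.assoc, ← f.comm_s, ← f.comm_t, ← Category.assoc,
        ← pullback.condition, Category.assoc, Category.assoc]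
      exact congrArg (u₁ ≫ ·) pullback.condition
    refine ⟨(cmp G₁ u₂ (u₁ ≫ p₂) h₁) v, ?_⟩
    rw [← Scheme.Hom.comp_apply, show cmp G₁ u₂ (u₁ ≫ p₂) h₁ ≫ f.fR = _ from f.comm_c _ _ h₁]
    show _ = m p
    rw [← hv, ← Scheme.Hom.comp_apply]
    refine congrArg (fun g : pullback p₁ f.fR ⟶ G.R => g v) ?_
    rw [show m = cmp G p₁ (p₂ ≫ f.fR) _ from rfl, comp_cmp]
    exact cmp_congr G (pullback.condition (f := p₁) (g := f.fR)).symm (Category.assoc _ _ _) _ _
  haveI : UniversallyOpen (f.fR ≫ G.t) := universallyOpen_toU G eU _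
  have hcl : ⇑p₁ ⁻¹' closure (Set.range ⇑f.fR) ⊆ ⇑m ⁻¹' closure (Set.range ⇑f.fR) := by
    rw [(Scheme.Hom.isOpenMap p₁).preimage_closure_eq_closure_preimage p₁.continuous]
    exact closure_minimal (hsub.trans (Set.preimage_mono subset_closure)) (isClosed_closure.preimage m.continuous)
  obtain ⟨x, hx⟩ := hβ
  obtain ⟨v, hv, -⟩ := Scheme.Pullback.exists_preimage_pullback (f := β) (g := f.fR) q x hx.symm
  let π := pullback.fst β f.fR
  let l : pullback β f.fR ⟶ P := pullback.lift (π ≫ γ) (pullback.snd β f.fR) (by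
    rw [Category.assoc, h, ← Category.assoc, pullback.condition, Category.assoc])
  have h1 : l v ∈ ⇑p₁ ⁻¹' closure (Set.range ⇑f.fR) := by
    refine Set.mem_preimage.2 ?_
    rw [← Scheme.Hom.comp_apply, show l ≫ p₁ = π ≫ γ from pullback.lift_fst _ _ _, Scheme.Hom.comp_apply, hv]
    exact hγ
  have h2 := hcl h1
  have e : l ≫ m = π ≫ cmp G γ β h := by
    simp only [m, comp_cmp]
    exact cmp_congr G (pullback.lift_fst _ _ _)
      (by rw [← Category.assoc, show l ≫ p₂ = _ from pullback.lift_snd _ _ _]; exact pullback.condition.symm) _ _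
  show cmp G γ β h q ∈ _
  rw [← hv, ← Scheme.Hom.comp_apply, ← e, Scheme.Hom.comp_apply]
  exact h2

theorem inv_mem_image {r : G.R} (hr : r ∈ Set.range ⇑f.fR) : G.i r ∈ Set.range ⇑f.fR := by
  obtain ⟨x, rfl⟩ := hr
  exact ⟨G₁.i x, by rw [← Scheme.Hom.comp_apply, hom_i, Scheme.Hom.comp_apply]⟩

theorem inv_mem_closure {r : G.R} (hr : r ∈ closure (Set.range ⇑f.fR)) :
    G.i r ∈ closure (Set.range ⇑f.fR) :=
  map_mem_closure G.i.continuous hr fun _ h => inv_mem_image f h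

theorem cmp_mem_image {T : Scheme.{u}} (γ β : T ⟶ G.R) (h : γ ≫ G.s = β ≫ G.t) (q : T)
    (hγ : γ q ∈ Set.range ⇑f.fR) (hβ : β q ∈ Set.range ⇑f.fR) :
    cmp G γ β h q ∈ Set.range ⇑f.fR := by
  obtain ⟨x, hx⟩ := hγ
  obtain ⟨y, hy⟩ := hβ
  obtain ⟨v, hv, -⟩ := Scheme.Pullback.exists_preimage_pullback (f := γ) (g := f.fR) q x hx.symm
  let π := pullback.fst γ f.fR
  obtain ⟨w, hw, -⟩ := Scheme.Pullback.exists_preimage_pullback (f := π ≫ β) (g := f.fR) v y
    (by rw [Scheme.Hom.comp_apply, hv, hy])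
  let ρ := pullback.fst (π ≫ β) f.fR
  let x' := ρ ≫ pullback.snd γ f.fR
  let y' := pullback.snd (π ≫ β) f.fR
  have hx' : x' ≫ f.fR = (ρ ≫ π) ≫ γ := by
    rw [Category.assoc, ← pullback.condition, Category.assoc]
  have hy' : y' ≫ f.fR = (ρ ≫ π) ≫ β := pullback.condition.symm.trans (Category.assoc _ _ _).symm
  have h₁ : x' ≫ G₁.s = y' ≫ G₁.t := by
    rw [← cancel_mono f.fU, Category.assoc, ← f.comm_s, Category.assoc y', ← f.comm_t, ← Category.assoc, hx',
      ← Category.assoc, hy', Category.assoc, h]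
    simp only [Category.assoc]
  refine ⟨(cmp G₁ x' y' h₁) w, ?_⟩
  rw [← Scheme.Hom.comp_apply, show cmp G₁ x' y' h₁ ≫ f.fR = _ from f.comm_c _ _ h₁]
  have e : (ρ ≫ π) w = q := by rw [Scheme.Hom.comp_apply, hw, hv]
  rw [← e, ← Scheme.Hom.comp_apply]
  refine congrArg (fun g : pullback (π ≫ β) f.fR ⟶ G.R => g w) ?_
  rw [comp_cmp]
  exact cmp_congr G hx' hy' _ _

include eU in
/-- A locally closed image of a groupoid map, iso on objects, is closed. -/
theorem isClosed_range_of_isLocallyClosed (hlc : IsLocallyClosed (Set.range ⇑f.fR)) :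
    IsClosed (Set.range ⇑f.fR) := by
  haveI : Subsingleton G.U := eU.hom.homeomorph.subsingleton
  obtain ⟨U₀, C₀, hU, hC, hI⟩ := hlc
  let I := Set.range ⇑f.fR
  have hIC : closure I ⊆ C₀ := closure_minimal (hI.subset.trans Set.inter_subset_right) hC
  refine closure_subset_iff_isClosed.1 fun r hr => ?_
  let W : G.R.Opens := ⟨U₀, hU⟩
  have hWI : ∀ z, z ∈ W → z ∈ closure I → z ∈ I := fun z hz hz' => hI.symm.subset ⟨hz, hIC hz'⟩
  let a := G.R.fromSpecResidueField r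
  have hopen := isOpen_range_transl G eU W a
  -- `r` is in the translate
  have hrmem : r ∈ Set.range ⇑(transl G W a) := by
    let ε := a ≫ G.s ≫ G.e
    have hεI : ∀ p, ε p ∈ I := fun p => by
      refine ⟨G₁.e ((inv f.fU) (G.s (a p))), ?_⟩
      rw [← Scheme.Hom.comp_apply, hom_e, ← Scheme.Hom.comp_apply, IsIso.inv_hom_id_assoc]
      rfl
    have hr' : Set.range ⇑ε ⊆ Set.range ⇑W.ι := by
      rw [Scheme.Opens.range_ι]
      rintro _ ⟨p, rfl⟩
      exact (hI.subset (hεI p)).1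
    let l := IsOpenImmersion.lift W.ι ε hr'
    have hl : l ≫ W.ι = ε := IsOpenImmersion.lift_fac _ _ _
    let z : Spec (G.R.residueField r) ⟶ pullback (a ≫ G.s) (W.ι ≫ G.t) :=
      pullback.lift (𝟙 _) l (by rw [Category.id_comp, ← Category.assoc, hl]; simp [ε, G.e_t])
    refine ⟨z (IsLocalRing.closedPoint _), ?_⟩
    refine (Scheme.Hom.comp_apply z (transl G W a) _).symm.trans ?_
    have hz : z ≫ transl G W a = a := by
      simp only [transl, comp_cmp]
      refine (cmp_congr G (by simp only [z, ← Category.assoc, pullback.lift_fst, Category.id_comp]) (show z ≫ pullback.snd _ _ ≫ W.ι = a ≫ G.s ≫ G.e by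
        rw [← Category.assoc, show z ≫ pullback.snd _ _ = l from pullback.lift_snd _ _ _, hl]) _ ?_).trans (G.comp_e a)
      simp [G.e_t]
    rw [hz]
    exact Scheme.fromSpecResidueField_apply _ _
  obtain ⟨_, ⟨p, rfl⟩, hp⟩ := mem_closure_iff.1 hr _ hopen hrmem
  let P := pullback (a ≫ G.s) (W.ι ≫ G.t)
  let α : P ⟶ G.R := pullback.fst _ _ ≫ a
  let β : P ⟶ G.R := pullback.snd _ _ ≫ W.ι
  have hc : α ≫ G.s = β ≫ G.t := (Category.assoc _ _ _).trans (pullback.condition.trans (Category.assoc _ _ _).symm)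
  let γ := cmp G α β hc
  have hα : α p = r := (Scheme.Hom.comp_apply _ _ _).trans (Scheme.fromSpecResidueField_apply _ _)
  have hγ : γ p ∈ I := hp
  -- the second component is `α⁻¹γ`
  have h' : (α ≫ G.i) ≫ G.s = γ ≫ G.t := by rw [i_comp_s, cmp_t]
  have hβ : cmp G (α ≫ G.i) γ h' = β := cmp_inv_cmp G α β hc h'
  have hβI : β p ∈ I := by
    refine hWI _ ((pullback.snd (a ≫ G.s) (W.ι ≫ G.t)) p).2 ?_
    rw [← hβ]
    refine cmp_mem_closure eU f _ _ h' p ?_ hγ
    rw [Scheme.Hom.comp_apply, hα]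
    exact inv_mem_closure f hr
  have h'' : γ ≫ G.s = (β ≫ G.i) ≫ G.t := by rw [i_comp_t, cmp_s]
  have hα' : cmp G γ (β ≫ G.i) h'' = α := cmp_cmp_inv_right G β α hc h''
  rw [← hα, ← hα']
  refine cmp_mem_image f _ _ h'' p hγ ?_
  rw [Scheme.Hom.comp_apply]
  exact inv_mem_image f hβI

end Groth.Agent.GrpdField
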